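import Cfsg.Agent.H34.SylCert.Cert

/-!
Certificate against stem extensions of Ly by 5 (generated data).
-/

set_option autoImplicit false
set_option maxRecDepth 100000

namespace Cfsg.Agent.H94.Ly

open Cfsg.Agent.H34.SylCert

/-- The certificate. -/
def certFive : Cert where
  l := 5
  n := 6
  ng := 8
  pw := [[], [], [], [], [], []]
  cj := [
    [[3, 2, 2, 1], [5, 5, 5, 5, 4, 4, 3, 2], [4, 4, 4, 4, 3], [4], [5]],
    [[5, 2], [3], [5, 5, 5, 5, 4], [5]],
    [[5, 5, 3], [4], [5]],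
    [[4], [5]],
    [[5]],
    []]
  extra := [
    [12, 0, 13, 5],
    [12, 4, 13, 1, 1, 5, 5, 5, 7, 7, 9, 9, 9, 11, 11],
    [12, 6, 13, 7, 7, 7, 9, 9, 9, 9],
    [12, 8, 13, 11, 11, 11, 11],
    [12, 10, 13, 9, 9, 11, 11, 11, 11],
    [14, 4, 2, 15, 7, 9, 9, 9, 11, 11],
    [14, 6, 4, 4, 4, 4, 15, 1, 1, 1, 7, 7, 7, 11, 11],
    [14, 8, 6, 6, 6, 6, 15, 1, 7, 7, 7, 7, 11, 11, 11, 11],
    [14, 10, 15, 9, 9, 9]]
  syz := [
    [([12], 0, false), ([], 21, true), ([4], 21, true), ([4, 4], 21, true), ([4, 4, 4], 21, true), ([4, 4, 4, 4], 21, true), ([], 11, true)],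
    [([], 12, true), ([10, 10, 6], 13, true), ([10, 10], 16, true), ([10], 19, false), ([], 19, false), ([8], 12, false), ([], 13, false), ([4], 16, false)],
    [([], 1, true), ([6, 4, 4, 2], 5, true), ([6, 4, 4], 10, true), ([6, 4], 14, true), ([6], 14, true), ([], 17, true), ([10], 1, false), ([], 5, false), ([0], 10, false)],
    [([], 7, true), ([10, 4], 8, true), ([10], 12, true), ([10, 10], 17, false), ([10, 10, 6], 7, false), ([10, 10], 8, false), ([10], 10, false), ([], 10, false), ([2], 12, false)],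
    [([12], 4, false), ([], 21, true), ([4], 24, true), ([], 14, true), ([10], 14, true), ([10, 10], 14, true), ([10, 10, 10], 14, true), ([10, 10, 10, 10], 21, false), ([], 24, false)],
    [([14], 20, false), ([], 29, true), ([8, 8, 8], 29, true), ([8, 8, 8, 8, 8, 8], 29, true), ([8, 8, 8, 8, 8, 8, 8, 8, 8], 29, true), ([8, 8, 8, 8, 8, 8, 8, 8, 8, 8, 8, 8], 29, true), ([], 18, true), ([], 18, true), ([], 18, true)],
    [([], 8, true), ([6], 9, true), ([], 17, true), ([10], 17, true), ([10, 10], 17, true), ([10, 10, 10], 17, true), ([10, 10, 10, 10], 16, true), ([10, 10, 10, 10, 8], 8, false), ([], 9, false), ([2], 16, false)],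
    [([12], 18, false), ([], 24, true), ([10, 10, 10, 10], 24, true), ([10, 10, 10, 10, 10, 10, 10, 10], 24, true), ([10, 10, 10, 10, 10, 10, 10, 10, 10, 10, 10, 10], 24, true), ([10, 10, 10, 10, 10, 10, 10, 10, 10, 10, 10, 10, 10, 10, 10, 10], 24, true), ([], 20, true), ([], 20, true), ([], 20, true), ([], 20, true)],
    [([], 2, true), ([10, 10, 10, 10, 8, 8, 6, 4], 4, true), ([10, 10, 10, 10, 8, 8, 6], 13, true), ([10, 10, 10, 10, 8, 8], 16, true), ([10, 10, 10], 19, false), ([10, 10], 19, false), ([10], 19, false), ([], 19, false), ([8], 2, false), ([], 4, false), ([0], 13, false)],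
    [([12], 5, false), ([], 21, true), ([4], 25, true), ([], 14, true), ([10], 14, true), ([10, 10], 14, true), ([10, 10, 10], 14, true), ([10, 10, 10, 10], 13, true), ([10, 10, 10, 10, 8], 13, true), ([10, 10, 10, 10, 8, 8], 21, false), ([], 25, false)],
    [([], 1, true), ([6, 4, 4, 2], 4, true), ([6, 4, 4], 9, true), ([6, 4], 14, true), ([6], 14, true), ([], 17, true), ([10, 6, 4], 14, true), ([10, 6], 14, true), ([10], 17, true), ([10, 10, 6, 4], 14, true), ([10, 10, 6], 14, true), ([10, 10], 17, true), ([10, 10, 10, 6, 4], 14, true), ([10, 10, 10, 6], 14, true), ([10, 10, 10], 17, true), ([10, 10, 10, 10, 6, 4], 13, true), ([10, 10, 10, 10, 6], 13, true), ([10, 10, 10, 10], 16, true), ([10, 10, 10, 10, 8], 1, false), ([10, 10, 10, 10], 4, false), ([10, 10, 10], 5, false), ([10, 10], 5, false), ([10], 5, false), ([], 5, false), ([0], 9, false)],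
    [([12], 15, false), ([], 23, true), ([8, 8, 8, 8, 6, 6, 6], 23, true), ([8, 8, 8, 8, 6, 6, 6, 8, 8, 8, 8, 6, 6, 6], 23, true), ([8, 8, 8, 8, 6, 6, 6, 8, 8, 8, 8, 6, 6, 6, 8, 8, 8, 8, 6, 6, 6], 23, true), ([8, 8, 8, 8, 6, 6, 6, 8, 8, 8, 8, 6, 6, 6, 8, 8, 8, 8, 6, 6, 6, 8, 8, 8, 8, 6, 6, 6], 23, true), ([8, 8, 8, 8, 6, 6], 16, true), ([8, 8, 8, 8, 6], 16, true), ([8, 8, 8, 8], 16, true), ([], 18, true), ([6, 6], 16, true), ([6], 16, true), ([], 16, true), ([8, 6, 6], 16, true), ([8, 6], 16, true), ([8], 16, true), ([8, 8, 6, 6], 16, true), ([8, 8, 6], 16, true), ([8, 8], 16, true), ([8, 8, 8], 15, true), ([8, 8, 8], 16, true), ([8, 8, 8, 8], 16, true), ([], 18, true), ([], 16, true), ([8], 16, true), ([8, 8, 6, 6, 6], 16, true), ([8, 8, 6, 6], 16, true), ([8, 8, 6], 16, true), ([8, 8], 16, true), ([8, 8, 8, 6, 6, 6], 16, true), ([8, 8, 8, 6, 6], 16, true), ([8, 8, 8, 6], 16, true), ([8, 8, 8], 16, true), ([8, 8,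 8, 8, 6, 6, 6], 16, true), ([8, 8, 8, 8, 6, 6], 16, true), ([8, 8, 8, 8, 6], 16, true), ([8, 8, 8, 8], 16, true), ([], 18, true), ([6, 6, 6], 16, true), ([6, 6], 16, true), ([6], 16, true), ([], 16, true), ([8], 15, true), ([8, 6], 16, true), ([8], 16, true), ([8, 8, 6], 16, true), ([8, 8], 16, true), ([8, 8, 8, 6], 16, true), ([8, 8, 8], 16, true), ([8, 8, 8, 8, 6], 16, true), ([8, 8, 8, 8], 16, true), ([], 18, true), ([], 15, true)],
    [([], 1, true), ([6, 4, 4, 2], 2, true), ([6, 4, 4], 10, true), ([6, 4], 14, true), ([6], 14, true), ([], 17, true), ([10, 6, 4, 4], 10, true), ([10, 6, 4], 14, true), ([10, 6], 14, true), ([10], 17, true), ([10, 10, 6, 4, 4], 10, true), ([10, 10, 6, 4], 14, true), ([10, 10, 6], 14, true), ([10, 10], 17, true), ([10, 10, 10, 6, 4, 4], 10, true), ([10, 10, 10, 6, 4], 14, true), ([10, 10, 10, 6], 14, true), ([10, 10, 10], 17, true), ([10, 10, 10, 10, 6, 4, 4], 9, true), ([10, 10,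 10, 10, 6, 4], 14, true), ([10, 10, 10, 10, 6], 14, true), ([10, 10, 10, 10], 17, true), ([], 20, true), ([6, 4], 14, true), ([6], 14, true), ([], 17, true), ([10, 6, 4], 14, true), ([10, 6], 14, true), ([10], 17, true), ([10, 10, 6, 4], 14, true), ([10, 10, 6], 14, true), ([10, 10], 17, true), ([10, 10, 10, 6, 4], 13, true), ([10, 10, 10, 6], 13, true), ([10, 10, 10], 16, true), ([10, 10, 10, 8, 6, 4, 4], 9, true), ([10, 10, 10, 8, 6, 4], 14, true), ([10, 10, 10, 8, 6], 14, true), ([10, 10, 10, 8], 17, true), ([10, 10, 10], 19, true), ([10, 10, 10, 10, 8, 6, 4], 14, true), ([10, 10, 10, 10, 8, 6], 14, true), ([10, 10, 10, 10, 8], 17, true), ([10, 10, 10, 10], 19, true), ([], 20, true), ([8, 6, 4], 14, true), ([8, 6], 14, true), ([8], 17, true), ([], 19, true), ([10, 8, 6, 4], 14, true), ([10, 8, 6], 14, true), ([10, 8], 17, true), ([10], 19, true), ([10, 10, 8, 6, 4], 13, true), ([10, 10, 8, 6], 13, true), ([10,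 10, 8], 16, true), ([10, 10, 8, 8, 6, 4, 4], 8, true), ([10, 10, 8, 8, 6, 4], 12, true), ([10, 10, 8, 8, 6], 14, true), ([10, 10, 8, 8], 17, true), ([10, 10, 8], 19, true), ([10, 10], 19, true), ([10, 10, 10, 8, 8, 6], 14, true), ([10, 10, 10, 8, 8], 17, true), ([10, 10, 10, 8], 19, true), ([10, 10, 10], 19, true), ([10, 10, 10, 10, 8, 8, 6], 12, true), ([10, 10, 10, 10, 8, 8], 17, true), ([10, 10, 10, 10, 8], 19, true), ([10, 10, 10, 10], 19, true), ([], 20, true), ([8, 8], 17, true), ([8], 19, true), ([], 19, true), ([10, 8, 8, 6, 6, 4, 4], 7, true), ([10, 8, 8, 6, 6, 4], 14, true), ([10, 8, 8, 6, 6], 14, true), ([10, 8, 8, 6], 17, true), ([10, 8, 8], 17, true), ([10, 8], 19, true), ([10], 19, true), ([10], 19, false), ([10, 8], 19, false), ([10, 8, 8], 17, false), ([], 19, false), ([8], 19, false), ([8, 8], 17, false), ([8, 8, 6], 12, false), ([8, 8, 6, 4], 1, false), ([], 20, false), ([10], 2, false), ([], 5,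 false), ([0], 7, false)],
    [([14, 10], 19, false), ([14, 10, 8], 17, false), ([14, 10, 8, 6], 17, false), ([14, 10, 8, 6, 6], 17, false), ([14], 19, false), ([14, 8], 17, false), ([14, 8, 6], 17, false), ([14, 8, 6, 6], 17, false), ([14, 8, 6, 6, 6], 12, false), ([14, 8, 6, 6, 6, 4], 8, false), ([14], 20, false), ([14, 10, 10, 10, 10], 19, false), ([14, 10, 10, 10, 10, 8], 17, false), ([14, 10, 10, 10, 10, 8, 6], 17, false), ([14, 10, 10, 10], 19, false), ([14, 10, 10, 10, 8], 17, false), ([14, 10, 10, 10, 8, 6], 17, false), ([14, 10, 10, 10, 8, 6, 6], 12, false), ([14, 10, 10, 10, 8, 6, 6, 4], 8, false), ([14, 10, 10], 19, false), ([14, 10, 10, 8], 17, false), ([14, 10], 19, false), ([14, 10, 8], 17, false), ([14, 10, 8, 6], 12, false), ([14, 10, 8, 6, 4], 8, false), ([14], 19, false), ([14], 20, false), ([14, 10, 10, 10, 10], 19, false), ([14, 10, 10, 10, 10, 8], 12, false), ([14, 10, 10, 10, 10, 8, 4], 8, false),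 ([14, 10, 10, 10, 10], 13, false), ([14, 10, 10, 10], 14, false), ([14, 10, 10], 14, false), ([14, 10], 14, false), ([14], 14, false), ([14, 4], 9, false), ([], 26, true), ([10, 10, 8, 8, 8, 6], 28, true), ([10, 10, 8, 8, 8], 17, true), ([10, 10, 8, 8], 19, true), ([10, 10, 8], 19, true), ([10, 10], 19, true), ([10, 10, 10, 8, 8, 8], 17, true), ([10, 10, 10, 8, 8], 19, true), ([10, 10, 10, 8], 19, true), ([10, 10, 10], 19, true), ([10, 10, 10, 10, 8, 8, 8], 17, true), ([10, 10, 10, 10, 8, 8], 19, true), ([10, 10, 10, 10, 8], 19, true), ([10, 10, 10, 10], 19, true), ([], 20, true), ([8, 8, 8], 17, true), ([8, 8], 19, true), ([8], 19, true), ([], 19, true), ([10, 8, 8, 8], 15, true), ([10, 8, 8, 8], 15, false), ([10, 8, 8], 16, false), ([10, 8, 8, 6], 16, false), ([10, 8, 8, 6, 6], 16, false), ([10, 8, 8, 6, 6, 6], 16, false), ([10, 8], 16, false), ([10, 8, 6], 16, false), ([10, 8, 6, 6], 16, false), ([10, 8, 6, 6,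 6], 16, false), ([10], 16, false), ([10, 6], 16, false), ([10, 6, 6], 16, false), ([10, 6, 6, 6], 16, false), ([10], 18, false), ([10, 8, 8, 8, 8], 16, false), ([10, 8, 8, 8, 8, 6], 16, false), ([10, 8, 8, 8, 8, 6, 6], 16, false), ([10, 8, 8, 8, 8, 6, 6, 6], 16, false), ([10, 8, 8, 8, 8, 6, 6, 6, 6], 3, false), ([10, 8, 8, 8], 16, false), ([10, 8, 8, 8, 6], 16, false), ([10, 8, 8, 8, 6, 6], 16, false), ([10, 8, 8, 8, 6, 6, 6], 16, false), ([10, 8, 8, 8, 6, 6, 6, 6], 4, false), ([10, 8, 8], 16, false), ([10, 8, 8, 6], 16, false), ([10, 8, 8, 6, 6], 16, false), ([10, 8, 8, 6, 6, 6], 16, false), ([10, 8, 8, 6, 6, 6, 6], 4, false), ([10, 8], 16, false), ([10, 8, 6], 16, false), ([10, 8, 6, 6], 16, false), ([10, 8, 6, 6, 6], 16, false), ([10, 8, 6, 6, 6, 6], 4, false), ([], 19, false), ([8], 17, false), ([8, 6], 17, false), ([8, 6, 6], 17, false), ([8, 6, 6, 6], 17, false), ([8, 6, 6, 6, 6], 5, false), ([], 20, false),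 ([10, 10, 10, 10], 19, false), ([10, 10, 10, 10, 8], 17, false), ([10, 10, 10, 10, 8, 6], 17, false), ([10, 10, 10, 10, 8, 6, 6], 17, false), ([10, 10, 10, 10, 8, 6, 6, 6], 17, false), ([10, 10, 10, 10, 8, 6, 6, 6, 6], 5, false), ([10, 10, 10], 19, false), ([10, 10], 19, false), ([10], 19, false), ([], 19, false), ([], 18, false), ([8, 8, 8, 8, 8, 8, 10, 10, 10, 10, 6, 6, 6, 6, 0], 26, false), ([8, 8, 8, 8, 8, 8], 28, false), ([8, 8, 8], 29, false), ([], 29, false)],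
    [([], 1, true), ([6, 4, 4, 2], 3, true), ([6, 4, 4], 9, true), ([6, 4], 14, true), ([6], 14, true), ([], 17, true), ([10, 6, 4], 14, true), ([10, 6], 14, true), ([10], 17, true), ([10, 10, 6, 4], 14, true), ([10, 10, 6], 14, true), ([10, 10], 17, true), ([10, 10, 10, 6, 4], 14, true), ([10, 10, 10, 6], 14, true), ([10, 10, 10], 17, true), ([10, 10, 10, 10, 6, 4], 13, true), ([10, 10, 10, 10, 6], 13, true), ([10, 10, 10, 10], 16, true), ([10, 10, 10, 10, 8, 6, 4, 4], 9, true), ([10, 10, 10, 10, 8, 6, 4], 14, true), ([10, 10, 10, 10, 8, 6], 14, true), ([10, 10, 10, 10, 8], 17, true), ([10, 10, 10, 10], 19, true), ([], 20, true), ([8, 6, 4], 14, true), ([8, 6], 14, true), ([8], 17, true), ([], 19, true), ([10, 8, 6, 4], 14, true), ([10, 8, 6], 14, true), ([10, 8], 17, true), ([10], 19, true), ([10, 10, 8, 6, 4], 14, true), ([10, 10, 8, 6], 14, true), ([10, 10, 8], 17, true), ([10, 10], 19, true), ([10, 10, 10, 8,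 6, 4], 13, true), ([10, 10, 10, 8, 6], 13, true), ([10, 10, 10, 8], 16, true), ([10, 10, 10, 8, 8, 6, 4, 4], 9, true), ([10, 10, 10, 8, 8, 6, 4], 14, true), ([10, 10, 10, 8, 8, 6], 14, true), ([10, 10, 10, 8, 8], 17, true), ([10, 10, 10, 8], 19, true), ([10, 10, 10], 19, true), ([10, 10, 10, 10, 8, 8, 6, 4], 14, true), ([10, 10, 10, 10, 8, 8, 6], 14, true), ([10, 10, 10, 10, 8, 8], 17, true), ([10, 10, 10, 10, 8], 19, true), ([10, 10, 10, 10], 19, true), ([], 20, true), ([8, 8, 6, 4], 14, true), ([8, 8, 6], 14, true), ([8, 8], 17, true), ([8], 19, true), ([], 19, true), ([10, 8, 8, 6, 4], 14, true), ([10, 8, 8, 6], 14, true), ([10, 8, 8], 17, true), ([10, 8], 19, true), ([10], 19, true), ([10, 10, 8, 8, 6, 4], 13, true), ([10, 10, 8, 8, 6], 13, true), ([10, 10, 8, 8], 16, true), ([10, 10, 8, 8, 8, 6, 4, 4], 9, true), ([10, 10, 8, 8, 8, 6, 4], 14, true), ([10, 10, 8, 8, 8, 6], 14, true), ([10, 10, 8, 8, 8], 17, true),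 ([10, 10, 8, 8], 19, true), ([10, 10, 8], 19, true), ([10, 10], 19, true), ([10, 10, 10, 8, 8, 8, 6, 4], 14, true), ([10, 10, 10, 8, 8, 8, 6], 14, true), ([10, 10, 10, 8, 8, 8], 17, true), ([10, 10, 10, 8, 8], 19, true), ([10, 10, 10, 8], 19, true), ([10, 10, 10], 19, true), ([10, 10, 10, 10, 8, 8, 8, 6, 4], 14, true), ([10, 10, 10, 10, 8, 8, 8, 6], 14, true), ([10, 10, 10, 10, 8, 8, 8], 17, true), ([10, 10, 10, 10, 8, 8], 19, true), ([10, 10, 10, 10, 8], 19, true), ([10, 10, 10, 10], 19, true), ([], 20, true), ([8, 8, 8, 6, 4], 14, true), ([8, 8, 8, 6], 14, true), ([8, 8, 8], 17, true), ([8, 8], 19, true), ([8], 19, true), ([], 19, true), ([10, 8, 8, 8, 6, 4], 13, true), ([10, 8, 8, 8, 6], 13, true), ([10, 8, 8, 8], 16, true), ([10, 8, 8, 8, 8, 6, 4, 4], 8, true), ([10, 8, 8, 8, 8, 6, 4], 12, true), ([10, 8, 8, 8, 8, 6], 14, true), ([10, 8, 8, 8, 8], 17, true), ([10, 8, 8, 8], 19, true), ([10, 8, 8], 19, true),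 ([10, 8], 19, true), ([10], 19, true), ([10, 10, 8, 8, 8, 8, 6], 14, true), ([10, 10, 8, 8, 8, 8], 17, true), ([10, 10, 8, 8, 8], 19, true), ([10, 10, 8, 8], 19, true), ([10, 10, 8], 19, true), ([10, 10], 19, true), ([10, 10, 10, 8, 8, 8, 8, 6], 12, true), ([10, 10, 10, 8, 8, 8, 8], 17, true), ([10, 10, 10, 8, 8, 8], 19, true), ([10, 10, 10, 8, 8], 19, true), ([10, 10, 10, 8], 19, true), ([10, 10, 10], 19, true), ([10, 10, 10, 10, 8, 8, 8, 8], 17, true), ([10, 10, 10, 10, 8, 8, 8], 19, true), ([10, 10, 10, 10, 8, 8], 19, true), ([10, 10, 10, 10, 8], 19, true), ([10, 10, 10, 10], 19, true), ([], 20, true), ([8, 8, 8, 8, 6], 1, false), ([], 3, false), ([0], 8, false)],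
    [([14, 10, 6], 11, false), ([14], 17, false), ([14, 6], 14, false), ([14, 6, 4], 14, false), ([14, 6, 4, 4], 14, false), ([14, 6, 4, 4, 4], 14, false), ([14, 6, 4, 4, 4, 4], 7, false), ([14], 20, false), ([14, 10, 10, 10, 10], 17, false), ([14, 10, 10, 10, 10, 6], 14, false), ([14, 10, 10, 10, 10, 6, 4], 14, false), ([14, 10, 10, 10, 10, 6, 4, 4], 14, false), ([14, 10, 10, 10, 10, 6, 4, 4, 4], 7, false), ([14, 10, 10, 10], 17, false), ([14, 10, 10, 10, 6], 14, false), ([14, 10, 10, 10, 6, 4], 14, false), ([14, 10, 10, 10, 6, 4, 4], 7, false), ([14, 10, 10], 17, false), ([14, 10, 10, 6], 14, false), ([14, 10, 10, 6, 4], 7, false), ([14], 12, false), ([14, 4], 8, false), ([], 26, true), ([10, 10, 8, 8, 8, 6], 27, true), ([10, 10, 8, 8, 8], 17, true), ([10, 10, 8, 8], 19, true), ([10, 10, 8], 19, true), ([10, 10], 19, true), ([10, 10, 10, 8, 8, 8], 17, true), ([10, 10, 10, 8, 8], 19, true), ([10, 10, 10, 8], 19,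 true), ([10, 10, 10], 19, true), ([10, 10, 10, 10, 8, 8], 16, false), ([10, 10, 10, 10, 8, 8, 6], 16, false), ([10, 10, 10, 10, 8, 8, 6, 6], 16, false), ([10, 10, 10, 10, 8], 16, false), ([10, 10, 10, 10, 8, 6], 16, false), ([10, 10, 10, 10, 8, 6, 6], 16, false), ([10, 10, 10, 10], 16, false), ([10, 10, 10, 10, 6], 16, false), ([10, 10, 10, 10, 6, 6], 16, false), ([10, 10, 10, 10], 18, false), ([10, 10, 10, 10, 8, 8, 8, 8], 16, false), ([10, 10, 10, 10, 8, 8, 8, 8, 6], 16, false), ([10, 10, 10, 10, 8, 8, 8, 8, 6, 6], 16, false), ([10, 10, 10, 10, 8, 8, 8, 8, 6, 6, 6], 3, false), ([10, 10, 10, 10, 8, 8, 8], 16, false), ([10, 10, 10, 10, 8, 8, 8, 6], 16, false), ([10, 10, 10, 10, 8, 8, 8, 6, 6], 16, false), ([10, 10, 10, 10, 8, 8, 8, 6, 6, 6], 4, false), ([10, 10, 10, 10, 8, 8], 16, false), ([10, 10, 10, 10, 8, 8, 6], 16, false), ([10, 10, 10, 10, 8, 8, 6, 6], 16, false), ([10, 10, 10, 10, 8, 8, 6, 6, 6], 4, false),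 ([10, 10, 10, 10, 8], 16, false), ([10, 10, 10, 10, 8, 6], 16, false), ([10, 10, 10, 10, 8, 6, 6], 16, false), ([10, 10, 10, 10, 8, 6, 6, 6], 4, false), ([10, 10, 10, 10], 16, false), ([10, 10, 10, 10, 6], 16, false), ([10, 10, 10, 10, 6, 6], 16, false), ([10, 10, 10, 10, 6, 6, 6], 4, false), ([10, 10, 10, 10, 6, 6, 6, 0], 3, false), ([10, 10, 10, 10], 18, false), ([10, 10, 10, 10, 8, 8, 8, 8], 16, false), ([10, 10, 10, 10, 8, 8, 8, 8, 6], 16, false), ([10, 10, 10, 10, 8, 8, 8, 8, 6, 6], 16, false), ([10, 10, 10, 10, 8, 8, 8, 8, 6, 6, 6], 4, false), ([10, 10, 10, 10, 8, 8, 8, 8, 6, 6, 6, 0], 4, false), ([10, 10, 10, 10, 8, 8, 8], 16, false), ([10, 10, 10, 10, 8, 8, 8, 6], 16, false), ([10, 10, 10, 10, 8, 8, 8, 6, 6], 16, false), ([10, 10, 10, 10, 8, 8, 8, 6, 6, 6], 4, false), ([10, 10, 10, 10, 8, 8, 8, 6, 6, 6, 0], 4, false), ([10, 10, 10, 10, 8, 8], 16, false), ([10, 10, 10, 10, 8, 8, 6], 16, false), ([10, 10, 10,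 10, 8, 8, 6, 6], 16, false), ([10, 10, 10, 10, 8, 8, 6, 6, 6], 4, false), ([10, 10, 10, 10, 8, 8, 6, 6, 6, 0], 4, false), ([10, 10, 10, 10, 8], 16, false), ([10, 10, 10, 10, 8, 6], 16, false), ([10, 10, 10, 10, 8, 6, 6], 16, false), ([10, 10, 10, 10, 8, 6, 6, 6], 4, false), ([10, 10, 10, 10, 8, 6, 6, 6, 0], 4, false), ([10, 10, 10, 10, 8, 6, 6, 6, 0, 0], 3, false), ([10, 10, 10, 10], 16, false), ([10, 10, 10, 10, 6], 16, false), ([10, 10, 10, 10, 6, 6], 16, false), ([10, 10, 10, 10, 6, 6, 6], 4, false), ([10, 10, 10, 10, 6, 6, 6, 0], 4, false), ([10, 10, 10, 10, 6, 6, 6, 0, 0], 4, false), ([10, 10, 10, 10], 18, false), ([10, 10, 10, 10, 8, 8, 8, 8], 16, false), ([10, 10, 10, 10, 8, 8, 8, 8, 6], 16, false), ([10, 10, 10, 10, 8, 8, 8, 8, 6, 6], 16, false), ([10, 10, 10, 10, 8, 8, 8, 8, 6, 6, 6], 4, false), ([10, 10, 10, 10, 8, 8, 8, 8, 6, 6, 6, 0], 4, false), ([10, 10, 10, 10, 8, 8, 8, 8, 6, 6, 6, 0, 0], 4, false),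 ([10, 10, 10, 10, 8, 8, 8], 16, false), ([10, 10, 10, 10, 8, 8, 8, 6], 16, false), ([10, 10, 10, 10, 8, 8, 8, 6, 6], 16, false), ([10, 10, 10, 10, 8, 8, 8, 6, 6, 6], 4, false), ([10, 10, 10, 10, 8, 8, 8, 6, 6, 6, 0], 4, false), ([10, 10, 10, 10, 8, 8, 8, 6, 6, 6, 0, 0], 4, false), ([10, 10, 10], 19, false), ([10, 10, 10, 8], 19, false), ([10, 10, 10, 8, 8], 19, false), ([10, 10, 10, 8, 8, 8], 17, false), ([10, 10, 10, 8, 8, 8, 6], 17, false), ([10, 10, 10, 8, 8, 8, 6, 6], 17, false), ([10, 10, 10, 8, 8, 8, 6, 6, 6], 5, false), ([10, 10, 10, 8, 8, 8, 6, 6, 6, 0], 5, false), ([10, 10, 10, 8, 8, 8, 6, 6, 6, 0, 0], 5, false), ([10, 10], 19, false), ([10, 10, 8], 19, false), ([10, 10, 8, 8], 19, false), ([10, 10, 8, 8, 8], 17, false), ([10, 10, 8, 8, 8, 6], 17, false), ([10, 10, 8, 8, 8, 6, 6], 17, false), ([10, 10, 8, 8, 8, 6, 6, 6], 5, false), ([10, 10, 8, 8, 8, 6, 6, 6, 0], 5, false), ([10, 10, 8, 8, 8, 6, 6, 6, 0,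 0], 5, false), ([10], 19, false), ([10, 8], 19, false), ([10, 8, 8], 19, false), ([], 19, false), ([8], 19, false), ([8, 8], 19, false), ([8, 8, 8, 10, 10, 6, 6, 6, 0, 0, 0], 26, false), ([8, 8, 8], 27, false), ([], 29, false), ([14, 10, 6], 11, true)],
    [([14], 6, false), ([14], 11, false), ([14], 20, false), ([14, 10, 10, 10, 10], 14, false), ([14, 10, 10, 10, 10, 4], 14, false), ([14, 10, 10, 10, 10, 4, 4], 14, false), ([14, 10, 10, 10, 10, 4, 4, 4], 14, false), ([14, 10, 10, 10, 10, 4, 4, 4, 4], 7, false), ([14, 10, 10, 10], 14, false), ([14, 10, 10, 10, 4], 14, false), ([14, 10, 10, 10, 4, 4], 14, false), ([14, 10, 10, 10, 4, 4, 4], 14, false), ([14, 10, 10, 10, 4, 4, 4, 4], 10, false), ([14, 10, 10, 10, 4, 4, 4, 4, 2], 7, false), ([14, 10, 10], 14, false), ([14, 10, 10, 4], 14, false), ([14, 10, 10, 4, 4], 14, false), ([14, 10, 10, 4, 4, 4], 14, false), ([14, 10, 10, 4, 4, 4, 4], 10, false), ([14, 10, 10,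 4, 4, 4, 4, 2], 10, false), ([14, 10, 10, 4, 4, 4, 4, 2, 2], 7, false), ([14, 10], 14, false), ([14, 10, 4], 14, false), ([14, 10, 4, 4], 14, false), ([14, 10, 4, 4, 4], 14, false), ([14, 10, 4, 4, 4, 4], 10, false), ([14, 10, 4, 4, 4, 4, 2], 10, false), ([14, 10, 4, 4, 4, 4, 2, 2], 10, false), ([14, 10, 4, 4, 4, 4, 2, 2, 2], 7, false), ([14], 14, false), ([14, 4], 14, false), ([14, 4, 4], 14, false), ([14, 4, 4, 4], 7, false), ([14], 20, false), ([14, 10, 10, 10, 10], 14, false), ([14, 10, 10, 10, 10, 4], 14, false), ([14, 10, 10, 10, 10, 4, 4], 14, false), ([14, 10, 10, 10, 10, 4, 4, 4], 10, false), ([14, 10, 10, 10, 10, 4, 4, 4, 2], 7, false), ([14, 10, 10, 10], 14, false), ([14, 10, 10, 10, 4], 14, false), ([14, 10, 10, 10, 4, 4], 14, false), ([14, 10, 10, 10, 4, 4, 4], 10, false), ([14, 10, 10, 10, 4, 4, 4, 2], 10, false), ([14, 10, 10, 10, 4, 4, 4, 2, 2], 7, false), ([14, 10, 10], 14, false), ([14, 10, 10,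 4], 14, false), ([14, 10, 10, 4, 4], 7, false), ([14, 10], 14, false), ([14, 10, 4], 14, false), ([14, 10, 4, 4], 10, false), ([14, 10, 4, 4, 2], 7, false), ([14], 14, false), ([14, 4], 7, false), ([], 26, true), ([10, 10, 8, 8, 8, 6], 26, true), ([10, 10, 8, 8, 8, 6, 10, 10, 8, 8, 8, 6], 26, true), ([10, 10, 8, 8, 8, 6, 10, 10, 8, 8, 8, 6, 10, 10, 8, 8, 8, 6], 26, true), ([10, 10, 8, 8, 8, 6, 10, 10, 8, 8, 8, 6, 10, 10, 8, 8, 8, 6, 10, 10, 8, 8, 8, 6], 26, true), ([10, 10, 8, 8, 8], 17, true), ([10, 10, 8, 8], 19, true), ([10, 10, 8], 19, true), ([10, 10], 19, true), ([10, 10, 10, 8, 8, 8], 17, true), ([10, 10, 10, 8, 8], 19, true), ([10, 10, 10, 8], 19, true), ([10, 10, 10], 19, true), ([10, 10, 10, 10, 8, 8, 8], 16, true), ([10, 10, 10, 10, 8, 8, 8, 8], 16, true), ([10, 10, 10, 10], 18, true), ([10, 10, 10, 10], 16, true), ([10, 10, 10, 10, 8, 6], 17, true), ([10, 10, 10, 10, 8], 17, true), ([10, 10, 10, 10],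 19, true), ([], 20, true), ([8, 6], 17, true), ([8], 17, true), ([], 19, true), ([10, 8, 6], 16, true), ([10, 8], 16, true), ([10, 8, 8, 6], 16, true), ([10, 8, 8], 16, true), ([10, 8, 8, 8, 6], 16, true), ([10, 8, 8, 8], 16, true), ([10, 8, 8, 8, 8, 6, 6], 17, true), ([10, 8, 8, 8, 8, 6], 17, true), ([10, 8, 8, 8, 8], 17, true), ([10, 8, 8, 8], 19, true), ([10, 8, 8], 19, true), ([10, 8], 19, true), ([10], 19, true), ([10, 10, 8, 8, 8, 8, 6, 6], 17, true), ([10, 10, 8, 8, 8, 8, 6], 17, true), ([10, 10, 8, 8, 8, 8], 17, true), ([10, 10, 8, 8, 8], 19, true), ([10, 10, 8, 8], 19, true), ([10, 10, 8], 19, true), ([10, 10], 19, true), ([10, 10, 10, 8, 8, 8, 8, 6, 6], 16, true), ([10, 10, 10, 8, 8, 8, 8, 6], 16, true), ([10, 10, 10, 8, 8, 8, 8], 16, true), ([10, 10, 10], 18, true), ([10, 10, 10, 6, 6], 16, true), ([10, 10, 10, 6], 16, true), ([10, 10, 10], 16, true), ([10, 10, 10, 8, 6, 6], 16, true), ([10, 10, 10, 8,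 6], 16, true), ([10, 10, 10, 8], 16, true), ([10, 10, 10, 8, 8, 6, 6, 6], 17, true), ([10, 10, 10, 8, 8, 6, 6], 17, true), ([10, 10, 10, 8, 8, 6], 17, true), ([10, 10, 10, 8, 8], 17, true), ([10, 10, 10, 8], 19, true), ([10, 10, 10], 19, true), ([10, 10, 10, 10, 8, 8, 6, 6, 6], 17, true), ([10, 10, 10, 10, 8, 8, 6, 6], 17, true), ([10, 10, 10, 10, 8, 8, 6], 17, true), ([10, 10, 10, 10, 8, 8], 17, true), ([10, 10, 10, 10, 8], 19, true), ([10, 10, 10, 10], 19, true), ([], 20, true), ([8, 8, 6, 6, 6], 16, true), ([8, 8, 6, 6], 16, true), ([8, 8, 6], 16, true), ([8, 8], 16, true), ([8, 8, 8, 6, 6, 6], 16, true), ([8, 8, 8, 6, 6], 16, true), ([8, 8, 8, 6], 16, true), ([8, 8, 8], 16, true), ([8, 8, 8, 8, 6, 6, 6], 16, true), ([8, 8, 8, 8, 6, 6], 16, true), ([8, 8, 8, 8, 6], 16, true), ([8, 8, 8, 8], 16, true), ([], 18, true), ([], 15, true)],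
    [([], 1, true), ([6, 4, 4, 2], 1, true), ([6, 4, 4], 8, true), ([6, 4], 12, true), ([6], 14, true), ([], 17, true), ([10, 6], 14, true), ([10], 17, true), ([10, 10, 6], 12, true), ([10, 10], 17, true), ([10, 10, 10], 17, true), ([10, 10, 10, 10, 6, 6, 4, 4], 7, true), ([10, 10, 10, 10, 6, 6, 4], 14, true), ([10, 10, 10, 10, 6, 6], 14, true), ([10, 10, 10, 10, 6], 17, true), ([10, 10, 10, 10], 17, true), ([], 20, true), ([6, 6, 4, 4, 4], 7, true), ([6, 6, 4, 4], 14, true), ([6, 6, 4], 14, true), ([6, 6], 14, true), ([6], 17, true), ([], 17, true), ([10, 6, 6, 4, 4, 4, 4, 2, 2], 1, true), ([10, 6, 6, 4, 4, 4, 4, 2], 8, true), ([10, 6, 6, 4, 4, 4, 4], 8, true), ([10, 6, 6, 4, 4, 4], 12, true), ([10, 6, 6, 4, 4], 14, true), ([10, 6, 6, 4], 14, true), ([10, 6, 6], 14, true), ([10, 6], 17, true), ([10], 17, true), ([10, 10, 6, 6, 4, 4], 14, true), ([10, 10, 6, 6, 4], 14, true), ([10, 10, 6, 6], 14, true), ([10, 10,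 6], 17, true), ([10, 10], 17, true), ([10, 10, 10, 6, 6, 4, 4], 12, true), ([10, 10, 10, 6, 6, 4], 14, true), ([10, 10, 10, 6, 6], 14, true), ([10, 10, 10, 6], 17, true), ([10, 10, 10], 17, true), ([10, 10, 10, 10, 6, 6, 4], 14, true), ([10, 10, 10, 10, 6, 6], 14, true), ([10, 10, 10, 10, 6], 17, true), ([10, 10, 10, 10], 17, true), ([], 20, true), ([6, 6, 4], 12, true), ([6, 6], 14, true), ([6], 17, true), ([], 17, true), ([10, 6, 6], 14, true), ([10, 6], 17, true), ([10], 17, true), ([10, 10, 6, 6], 12, true), ([10, 10, 6], 17, true), ([10, 10], 17, true), ([10, 10, 10, 6], 17, true), ([10, 10, 10], 17, true), ([10, 10, 10, 10, 6, 6, 6, 4, 4, 4, 4, 2], 7, true), ([10, 10, 10, 10, 6, 6, 6, 4, 4, 4, 4], 10, true), ([10, 10, 10, 10, 6, 6, 6, 4, 4, 4], 14, true), ([10, 10, 10, 10, 6, 6, 6, 4, 4], 14, true), ([10, 10, 10, 10, 6, 6, 6, 4], 14, true), ([10, 10, 10, 10, 6, 6, 6], 14, true), ([10, 10, 10, 10, 6, 6], 17,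 true), ([10, 10, 10, 10, 6], 17, true), ([10, 10, 10, 10], 17, true), ([], 20, true), ([6, 6, 6, 4, 4, 4, 4], 7, true), ([6, 6, 6, 4, 4, 4], 14, true), ([6, 6, 6, 4, 4], 14, true), ([6, 6, 6, 4], 14, true), ([6, 6, 6], 14, true), ([6, 6], 17, true), ([6], 17, true), ([], 17, true), ([10, 6, 6, 6], 11, true), ([10, 6, 6, 6, 2], 7, true), ([10, 6, 6, 6], 10, true), ([10, 6, 6], 17, true), ([10, 6], 17, true), ([10], 17, true), ([10, 10, 6, 6, 6], 7, true), ([10, 10, 6, 6], 17, true), ([10, 10, 6], 17, true), ([10, 10], 17, true), ([10, 10, 10, 6, 6, 6, 4, 2, 2, 2], 1, true), ([10, 10, 10, 6, 6, 6, 4, 2, 2], 8, true), ([10, 10, 10, 6, 6, 6, 4, 2], 8, true), ([10, 10, 10, 6, 6, 6, 4], 8, true), ([10, 10, 10, 6, 6, 6], 12, true), ([10, 10, 10, 6, 6], 17, true), ([10, 10, 10, 6], 17, true), ([10, 10, 10], 17, true), ([10, 10, 10, 10, 6, 6], 17, true), ([10, 10, 10, 10, 6], 17, true), ([10, 10, 10, 10], 17, true), ([],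 20, true), ([6, 6, 6, 6, 4, 2, 2], 7, true), ([6, 6, 6, 6, 4, 2], 10, true), ([6, 6, 6, 6, 4], 10, true), ([6, 6, 6, 6], 14, true), ([6, 6, 6], 17, true), ([6, 6], 17, true), ([6], 17, true), ([], 17, true), ([10, 6, 6, 6, 6, 4, 2], 7, true), ([10, 6, 6, 6, 6, 4], 10, true), ([10, 6, 6, 6, 6], 14, true), ([10, 6, 6, 6], 17, true), ([10, 6, 6], 17, true), ([10, 6], 17, true), ([10], 17, true), ([10, 10, 6, 6, 6, 6, 4], 7, true), ([10, 10, 6, 6, 6, 6], 14, true), ([10, 10, 6, 6, 6], 17, true), ([10, 10, 6, 6], 17, true), ([10, 10, 6], 17, true), ([10, 10], 17, true), ([10, 10, 10, 6, 6, 6, 6, 4, 4, 2, 2], 7, true), ([10, 10, 10, 6, 6, 6, 6, 4, 4, 2], 10, true), ([10, 10, 10, 6, 6, 6, 6, 4, 4], 10, true), ([10, 10, 10, 6, 6, 6, 6, 4], 14, true), ([10, 10, 10, 6, 6, 6, 6], 14, true), ([10, 10, 10, 6, 6, 6], 17, true), ([10, 10, 10, 6, 6], 17, true), ([10, 10, 10, 6], 17, true), ([10, 10, 10], 17, true), ([10, 10, 10,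 10, 6, 6, 6, 6, 4, 4, 2], 7, true), ([10, 10, 10, 10, 6, 6, 6, 6, 4, 4], 10, true), ([10, 10, 10, 10, 6, 6, 6, 6, 4], 14, true), ([10, 10, 10, 10, 6, 6, 6, 6], 14, true), ([10, 10, 10, 10, 6, 6, 6], 17, true), ([10, 10, 10, 10, 6, 6], 17, true), ([10, 10, 10, 10, 6], 17, true), ([10, 10, 10, 10], 17, true), ([], 20, true), ([6, 6, 6, 6, 4, 4], 7, true), ([6, 6, 6, 6, 4], 14, true), ([6, 6, 6, 6], 14, true), ([6, 6, 6], 17, true), ([6, 6], 17, true), ([6], 17, true), ([], 17, true), ([10, 6, 6, 6, 6, 4, 4, 4, 2, 2, 2, 2], 1, true), ([10, 6, 6, 6, 6, 4, 4, 4, 2, 2, 2], 8, true), ([10, 6, 6, 6, 6, 4, 4, 4, 2, 2], 8, true), ([10, 6, 6, 6, 6, 4, 4, 4, 2], 8, true), ([10, 6, 6, 6, 6, 4, 4, 4], 8, true), ([10, 6, 6, 6, 6, 4, 4], 12, true), ([10, 6, 6, 6, 6, 4], 14, true), ([10, 6, 6, 6, 6], 14, true), ([10, 6, 6, 6], 17, true), ([10, 6, 6], 17, true), ([10, 6], 17, true), ([10], 17, true), ([10, 10, 6, 6, 6, 6, 4], 14,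 true), ([10, 10, 6, 6, 6, 6], 14, true), ([10, 10, 6, 6, 6], 17, true), ([10, 10, 6, 6], 17, true), ([10, 10, 6], 17, true), ([10, 10], 17, true), ([10, 10, 10, 6, 6, 6, 6, 4], 12, true), ([10, 10, 10, 6, 6, 6, 6], 14, true), ([10, 10, 10, 6, 6, 6], 17, true), ([10, 10, 10, 6, 6], 17, true), ([10, 10, 10, 6], 17, true), ([10, 10, 10], 17, true), ([10, 10, 10, 10, 6, 6, 6, 6], 14, true), ([10, 10, 10, 10, 6, 6, 6], 17, true), ([10, 10, 10, 10, 6, 6], 17, true), ([10, 10, 10, 10, 6], 17, true), ([10, 10, 10, 10], 17, true), ([], 20, true), ([6, 6, 6, 6], 12, true), ([6, 6, 6], 17, true), ([6, 6], 17, true), ([6], 17, true), ([], 17, true), ([10, 6, 6, 6], 17, true), ([10, 6, 6], 17, true), ([10, 6], 17, true), ([10], 17, true), ([10, 10], 15, true), ([10, 10, 4, 4, 4, 2, 2, 2], 7, true), ([10, 10, 4, 4, 4, 2, 2], 10, true), ([10, 10, 4, 4, 4, 2], 10, true), ([10, 10, 4, 4, 4], 10, true), ([10, 10, 4, 4], 14, true),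 ([10, 10, 4], 14, true), ([10, 10], 14, true), ([10, 10, 10, 4, 4, 4, 2, 2], 7, true), ([10, 10, 10, 4, 4, 4, 2], 10, true), ([10, 10, 10, 4, 4, 4], 10, true), ([10, 10, 10, 4, 4], 14, true), ([10, 10, 10, 4], 14, true), ([10, 10, 10], 14, true), ([10, 10, 10, 10, 4, 4, 4, 2], 7, true), ([10, 10, 10, 10, 4, 4, 4], 10, true), ([10, 10, 10, 10, 4, 4], 14, true), ([10, 10, 10, 10, 4], 14, true), ([10, 10, 10, 10], 14, true), ([], 20, true), ([4, 4, 4], 7, true), ([4, 4], 14, true), ([4], 14, true), ([], 14, true), ([10, 4, 4, 4, 4, 2, 2, 2], 7, true), ([10, 4, 4, 4, 4, 2, 2], 10, true), ([10, 4, 4, 4, 4, 2], 10, true), ([10, 4, 4, 4, 4], 10, true), ([10, 4, 4, 4], 14, true), ([10, 4, 4], 14, true), ([10, 4], 14, true), ([10], 14, true), ([10, 10, 4, 4, 4, 4, 2, 2], 7, true), ([10, 10, 4, 4, 4, 4, 2], 10, true), ([10, 10, 4, 4, 4, 4], 10, true), ([10, 10, 4, 4, 4], 14, true), ([10, 10, 4, 4], 14, true), ([10, 10, 4],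 14, true), ([10, 10], 14, true), ([10, 10, 10, 4, 4, 4, 4, 2], 7, true), ([10, 10, 10, 4, 4, 4, 4], 10, true), ([10, 10, 10, 4, 4, 4], 14, true), ([10, 10, 10, 4, 4], 14, true), ([10, 10, 10, 4], 14, true), ([10, 10, 10], 14, true), ([10, 10, 10, 10, 4, 4, 4, 4], 7, true), ([10, 10, 10, 10, 4, 4, 4], 14, true), ([10, 10, 10, 10, 4, 4], 14, true), ([10, 10, 10, 10, 4], 14, true), ([10, 10, 10, 10], 14, true), ([], 20, true), ([], 11, true), ([], 6, true), ([0], 6, false)]]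
  vecs := [
    [4, 0, 0, 0, 0, 0, 0, 0, 0, 0, 0, 1, 0, 0, 0, 0, 0, 0, 0, 0, 0, 0],
    [0, 0, 0, 0, 0, 0, 0, 0, 0, 0, 0, 0, 0, 0, 0, 0, 0, 0, 0, 3],
    [0, 0, 0, 0, 0, 0, 0, 0, 0, 0, 0, 0, 0, 0, 2, 0, 0, 1],
    [0, 0, 0, 0, 0, 0, 0, 0, 0, 0, 3, 0, 0, 0, 0, 0, 0, 4],
    [0, 0, 0, 0, 4, 0, 0, 0, 0, 0, 0, 0, 0, 0, 4, 0, 0, 0, 0, 0, 0, 0, 0, 0, 0],
    [0, 0, 0, 0, 0, 0, 0, 0, 0, 0, 0, 0, 0, 0, 0, 0, 0, 0, 3, 0, 4, 0, 0, 0, 0, 0, 0, 0, 0, 0],
    [0, 0, 0, 0, 0, 0, 0, 0, 0, 0, 0, 0, 0, 0, 0, 0, 0, 4],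
    [0, 0, 0, 0, 0, 0, 0, 0, 0, 0, 0, 0, 0, 0, 0, 0, 0, 0, 4, 0, 4, 0, 0, 0, 0],
    [0, 0, 0, 0, 0, 0, 0, 0, 0, 0, 0, 0, 0, 0, 0, 0, 1, 0, 0, 1],
    [0, 0, 0, 0, 0, 4, 0, 0, 0, 0, 0, 0, 0, 2, 4, 0, 0, 0, 0, 0, 0, 0, 0, 0, 0, 0],
    [0, 0, 0, 0, 0, 1, 0, 0, 0, 0, 0, 0, 0, 2, 3, 0, 1, 4],
    [0, 0, 0, 0, 0, 0, 0, 0, 0, 0, 0, 0, 0, 0, 0, 2, 0, 0, 4, 0, 0, 0, 0, 0],
    [0, 0, 0, 0, 0, 4, 0, 0, 1, 2, 4, 0, 1, 4, 3, 0, 2, 1, 0, 0, 2],
    [0, 0, 0, 4, 2, 3, 0, 0, 1, 4, 0, 0, 1, 4, 1, 0, 2, 4, 3, 3, 3, 0, 0, 0, 0, 0, 0, 0, 0, 3],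
    [0, 0, 0, 0, 0, 0, 0, 0, 0, 4, 0, 0, 2, 3, 4, 0, 4, 0, 0, 0, 4],
    [0, 0, 0, 2, 4, 4, 0, 1, 4, 0, 0, 0, 4, 0, 0, 0, 0, 2, 2, 4, 4, 0, 0, 0, 0, 0, 0, 0, 0, 4],
    [0, 0, 0, 0, 0, 0, 4, 0, 0, 0, 0, 4, 0, 0, 0, 1, 0, 0, 3, 0, 0, 0, 0, 0, 0, 0, 0],
    [0, 0, 0, 0, 0, 0, 0, 0, 0, 0, 0, 2, 0, 0, 0, 1, 0, 0, 0, 0, 3]]
  adj := [
    [0, 0, 0, 0, 0, 0, 0, 0, 0, 0, 0, 0, 0, 0, 0, 0, 0, 0, 0, 0, 0, 0, 0, 0, 0, 0, 0, 0, 0, 0],
    [0, 0, 0, 0, 0, 0, 0, 0, 0, 0, 0, 0, 0, 0, 0, 0, 0, 0, 0, 0, 0, 0, 0, 0, 0, 0, 0, 0, 0, 0],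
    [0, 3, 2, 4, 0, 0, 0, 2, 0, 0, 0, 0, 0, 0, 0, 0, 0, 0, 0, 0, 0, 0, 0, 0, 0, 0, 0, 0, 0, 0],
    [0, 0, 1, 2, 0, 0, 0, 1, 0, 0, 0, 0, 0, 0, 0, 0, 0, 0, 0, 0, 0, 0, 0, 0, 0, 0, 0, 0, 0, 0],
    [0, 0, 0, 4, 0, 0, 0, 0, 0, 0, 0, 0, 0, 0, 0, 0, 0, 0, 0, 0, 0, 0, 0, 0, 0, 0, 0, 0, 0, 0],
    [0, 0, 0, 0, 0, 0, 0, 1, 0, 0, 0, 0, 0, 0, 0, 0, 0, 0, 0, 0, 0, 0, 0, 0, 0, 0, 0, 0, 0, 0]]
  prf := [
    [(0, 4), (7, 4), (11, 1), (17, 3)],
    [],
    [],
    [],
    [(2, 2), (4, 4), (6, 2)],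
    [(1, 1), (2, 4), (6, 1), (8, 2), (9, 2), (10, 3)],
    [(5, 4), (7, 2), (11, 2), (16, 4), (17, 2)],
    [],
    [(1, 1), (2, 1), (3, 2), (6, 2), (8, 2), (9, 2), (10, 3), (12, 1), (14, 2)],
    [(1, 1), (2, 4), (3, 3), (4, 3), (6, 4), (7, 3), (8, 2), (9, 2), (10, 1), (12, 4), (13, 2), (15, 1)],
    [(3, 2), (6, 3)],
    [(7, 4), (11, 1), (17, 3)],
    [(2, 2), (3, 4), (4, 4), (5, 3), (6, 3), (7, 3), (10, 2), (12, 2), (13, 1), (14, 3), (15, 3)],
    [(1, 3), (2, 1), (6, 2), (8, 1), (9, 4), (10, 4)],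
    [(2, 3), (6, 3)],
    [(5, 2), (7, 3), (11, 3)],
    [(1, 3), (8, 1)],
    [(6, 4)],
    [(5, 4), (7, 1)],
    [(1, 2)],
    [(5, 1), (7, 3)]]

/-- The elements as words in the ten letters. -/
def wordsFive : List (List ℕ) := [
  [1, 1, 7, 5, 2, 5, 3, 4, 1, 4, 6, 4, 1, 5, 6, 4],
  [5, 1, 7, 5, 2, 1, 5, 1, 4, 4, 7, 5, 2, 5, 2],
  [1, 3, 1, 4, 1, 5, 3, 4, 7, 2, 5, 2, 4, 4, 1],
  [7, 4, 2, 4, 4, 2, 0, 4, 7, 4, 3, 0, 5, 0, 5],
  [2, 2, 4, 2, 7, 4, 3, 5, 7, 5, 2, 5, 3, 4],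
  [3, 1, 4, 0, 3, 3, 4, 1, 7, 4, 3, 0, 4, 6, 2, 2],
  [5, 7, 5, 3, 1, 2, 5, 7, 2, 1, 2, 0],
  [1, 2, 1, 7, 5, 3, 1, 5, 0, 4, 7, 0]]

/-- Separating orbits. -/
def orbitsFive : List (List ℕ) := [
  [0x1000003001002004002000004004003004003002001000000003002002001000004004002000002001001000002002000003002003002000001003000001003000000002001000002000000001000002000000002002000000004000000001001004002003004001000004003000004000003003000000000001000002003000000000002000000003000000000000000001001004002000000000000000000000],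
  [0x1000001002002003004001004002000000002001003003000000003001004003002004001001004003004001002001002000004004003001000001001003000001000002001004002003004003001004003004000001002000002002003002002004002004001004000000002000004000002003004003004001002002000002002000001000002003002002004000000000000000000000, 0x2003004001004004001002004000001004003001000001002000002001002001003001000000003003000003002000004001003000004000002004003000001002000002000003004001000004004002001004001003000003003001004000000000004001003001003002003002002004004002004000002000001004001000001003002000000001004001001002004003002002004003004000000000000000000000, 0x3001001003000004000002004002000001001004004001001000003004002002001003004000000003000001003002001002001002002004004002002004000003000002003000000002004000002003002001004000003001003000003000001000004001002004000003002004000002004002000003000002000003003000002003003000004003000003000000004002001002001001004004000000000000000000000,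 0x4002003003000004001003001000000001003000002002001003001001003002001003002000000003002002003002002000001001004004003002000000000000003004004000002000002000000002002001004004003002003002000001002000003003003000004003002000003002004000003002000002000000002004004000003003003001004002004004001000004002000003000004000000000000000000000, 0x3000003000004003000004003003000001000001000003001001004003004002001003000000000003004003003002003003001000001004002002003001000002001001000000004003000000003001002001004003003003003004002002003000002000004001003003002001001002004003001001000002000002001003001002003001002004003001003003003003002002004000001004000000000000000000000],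
  [0x1000001002002003004001004002000000002001003003000000003001004003002004001001004003004001002001002000004004003001000001001003000001000002001004002003004003001004003004000001002000002002003002002004002004001004000000002000004000002003004003004001002002000002002000001000002003002002004000000000000000000000],
  [0x1001001003004002002004002003003002001001004000003002002001001003001002001004002001000004003002002002001000000003003003001000000001002002000002002003001003000001000004000004001002004001000001002004004004000000001000004001000002000003001001003000003002002003002000002004002000002000000000000000000000],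
  [0x1000003000003002000004000001002004000003004001004003003003004004000003002004001002002001003000001003001002000004002004003004001001002001003004001001000002001000001004000003003004002000001000002000004003004000002003000003000000000001002000000000000000000000],
  [0x1]]

end Cfsg.Agent.H94.Ly
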