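import Cfsg.Agent.H34.SylCert.Cert

/-!
Certificate against stem extensions of Ly by 2 (generated data).
-/

set_option autoImplicit false
set_option maxRecDepth 100000

namespace Cfsg.Agent.H94.Ly

open Cfsg.Agent.H34.SylCert

/-- The certificate. -/
def certTwo : Cert where
  l := 2
  n := 8
  ng := 10
  pw := [[6, 3], [7], [7, 6], [7], [7, 6], [7], [], []]
  cj := [
    [[7, 6, 4, 3, 1], [7, 5, 3, 2], [7, 3], [7, 6, 5, 4], [6, 5], [7, 6], [7]],
    [[6, 4, 3, 2], [7, 6, 5, 3], [7, 6, 5, 4], [5], [7, 6], [7]],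
    [[6, 3], [7, 6, 4], [6, 5], [6], [7]],
    [[6, 4], [7, 5], [6], [7]],
    [[5], [6], [7]],
    [[6], [7]],
    [[7]],
    []]
  extra := [
    [16, 4, 17, 9, 11, 13],
    [16, 6, 17, 7],
    [16, 8, 17, 5, 7, 11],
    [16, 10, 17, 7, 11, 13],
    [16, 12, 17, 13, 15],
    [16, 14, 17, 15],
    [18, 4, 0, 19, 1, 3, 5, 7, 13, 15],
    [18, 2, 19, 1, 5, 7, 9, 13],
    [18, 12, 8, 6, 19, 1, 3, 5, 15],
    [18, 10, 19, 11, 13, 15],
    [18, 14, 19, 15]]
  syz := [
    [([], 8, true), ([], 14, false), ([2], 8, false)],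
    [([], 21, true), ([], 25, false), ([6], 21, false)],
    [([], 30, true), ([], 32, false), ([10], 30, false)],
    [([], 15, true), ([14], 19, false), ([], 20, false), ([4], 15, false)],
    [([], 26, true), ([14], 28, false), ([], 29, false), ([8], 26, false)],
    [([], 21, true), ([], 34, false), ([12], 21, false), ([], 24, false), ([6], 24, false)],
    [([], 27, true), ([10], 27, true), ([], 30, true), ([], 29, false), ([8], 30, false)],
    [([16], 21, false), ([], 37, true), ([6], 37, true), ([], 21, true), ([], 41, false)],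
    [([], 0, true), ([], 35, false), ([14], 34, false), ([14, 12], 3, false), ([], 6, false), ([0], 0, false)],
    [([], 6, true), ([14, 12], 6, true), ([14], 34, true), ([], 35, true), ([], 33, true), ([0], 33, false)],
    [([], 26, true), ([14], 31, false), ([], 32, false), ([10], 26, false), ([], 27, false), ([8], 27, false)],
    [([], 3, true), ([14, 6], 3, true), ([14], 25, true), ([], 35, true), ([], 21, true), ([], 7, false), ([0], 21, false)],
    [([], 5, true), ([12, 10], 5, true), ([12], 31, true), ([], 33, true), ([], 30, true), ([], 7, false), ([0], 30, false)],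
    [([], 16, true), ([12, 6], 16, true), ([12], 24, true), ([], 33, true), ([], 21, true), ([], 20, false), ([4], 21, false)],
    [([], 18, true), ([12, 10], 18, true), ([12], 31, true), ([], 33, true), ([], 30, true), ([], 20, false), ([4], 30, false)],
    [([], 0, true), ([12], 23, true), ([], 34, true), ([14], 31, false), ([14, 10], 0, false), ([14], 33, false), ([14, 12], 5, false), ([], 6, false), ([0], 5, false)],
    [([18], 30, false), ([], 45, true), ([14, 12, 10], 45, true), ([14, 12], 32, true), ([14], 34, true), ([], 35, true), ([12], 31, true), ([], 33, true), ([], 30, true), ([], 46, false)],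
    [([16], 30, false), ([], 39, true), ([12, 10, 6], 39, true), ([12, 10], 24, true), ([12], 31, true), ([], 33, true), ([10], 23, true), ([], 32, true), ([14], 30, true), ([], 35, true), ([], 21, true), ([], 41, false)],
    [([16], 16, false), ([], 36, true), ([12, 10, 8], 37, true), ([], 31, false), ([10], 22, false), ([], 35, false), ([14], 23, false), ([14], 33, false), ([14, 12], 24, false), ([14, 12, 6], 36, false), ([14, 12], 37, false), ([], 40, false)],
    [([16], 15, false), ([], 36, true), ([12, 10, 8], 36, true), ([12, 10], 28, true), ([12], 31, true), ([], 33, true), ([10], 27, true), ([], 30, true), ([14], 26, true), ([], 35, true), ([], 35, false), ([14], 40, false), ([], 41, false)],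
    [([], 8, true), ([], 25, false), ([6], 8, false), ([], 35, false), ([14], 30, false), ([14], 33, false), ([14, 12], 31, false), ([], 34, false), ([12], 32, false), ([12, 10], 10, false), ([12], 12, false), ([], 35, false), ([14], 13, false), ([], 14, false), ([2], 10, false)],
    [([], 9, true), ([12, 8, 6, 4], 12, true), ([12, 8, 6], 18, true), ([12, 8], 24, true), ([12], 28, true), ([], 33, true), ([8], 23, true), ([], 29, true), ([14], 27, true), ([14], 33, false), ([14, 12], 31, false), ([14, 12, 10], 9, false), ([14, 12], 12, false), ([], 13, false), ([2], 18, false)],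
    [([], 10, true), ([14, 12, 10, 6], 10, true), ([14, 12, 10], 25, true), ([14, 12], 32, true), ([14], 34, true), ([], 35, true), ([12, 10], 24, true), ([12], 31, true), ([], 33, true), ([10], 23, true), ([], 32, true), ([14], 30, true), ([], 35, true), ([], 21, true), ([], 14, false), ([2], 21, false)],
    [([], 4, true), ([14, 12, 10, 8], 4, true), ([14, 12, 10], 29, true), ([14, 12], 32, true), ([14], 34, true), ([], 35, true), ([12, 10], 28, true), ([12], 31, true), ([], 33, true), ([10], 27, true), ([], 30, true), ([14], 26, true), ([], 35, true), ([], 35, false), ([14], 6, false), ([], 7, false), ([0], 26, false)],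
    [([], 0, true), ([12], 22, true), ([], 33, true), ([], 33, false), ([12], 28, false), ([12, 8], 0, false), ([], 35, false), ([14], 34, false), ([14, 12], 30, false), ([14], 31, false), ([], 32, false), ([10], 4, false), ([], 33, false), ([12], 5, false), ([], 35, false), ([14], 6, false), ([], 7, false), ([0], 4, false)],
    [([16], 26, false), ([], 38, true), ([10, 6, 4], 38, true), ([10, 6], 18, true), ([10], 24, true), ([], 31, true), ([12, 10], 23, true), ([12], 32, true), ([], 34, true), ([14, 12], 30, true), ([14], 34, true), ([], 35, true), ([12, 6], 16, true), ([12], 24, true), ([], 33, true), ([], 21, true), ([14], 15, true), ([], 35, true), ([], 35, false), ([14], 40, false), ([], 41, false)],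
    [([], 0, true), ([], 16, false), ([], 33, false), ([12], 19, false), ([12, 4], 0, false), ([], 35, false), ([14], 34, false), ([14, 12], 21, false), ([], 34, false), ([12], 30, false), ([], 35, false), ([14], 34, false), ([14, 12], 32, false), ([14, 12, 10], 23, false), ([], 34, false), ([12], 32, false), ([12, 10], 25, false), ([12, 10, 6], 2, false), ([], 35, false), ([14], 34, false), ([14, 12], 32, false), ([14, 12, 10], 3, false), ([14], 5, false), ([], 7, false), ([0], 2, false)],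
    [([], 9, true), ([12, 8, 6, 4], 9, true), ([12, 8, 6], 19, true), ([12, 8], 24, true), ([12], 28, true), ([], 33, true), ([8, 6], 17, true), ([8], 25, true), ([], 29, true), ([14, 8], 24, true), ([14], 28, true), ([14, 12, 8], 22, true), ([14, 12], 28, true), ([14], 33, true), ([14], 26, true), ([], 35, true), ([12, 6], 16, true), ([12], 24, true), ([], 33, true), ([], 21, true), ([14], 15, true), ([], 35, true), ([], 35, false), ([14], 13, false), ([], 14, false), ([2], 15, false)],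
    [([], 8, true), ([], 20, false), ([4], 8, false), ([], 35, false), ([14], 21, false), ([14], 33, false), ([], 34, false), ([12], 26, false), ([], 28, false), ([8], 22, false), ([], 33, false), ([12], 28, false), ([12, 8], 24, false), ([12, 8, 6], 9, false), ([], 35, false), ([14], 34, false), ([14, 12], 30, false), ([14, 12, 10], 27, false), ([14], 31, false), ([14, 10], 28, false), ([], 32, false), ([10], 29, false), ([10, 8], 10, false), ([], 33, false), ([], 35, false), ([14], 34, false), ([14, 12], 11, false), ([], 13, false), ([2], 9, false)],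
    [([], 0, true), ([], 35, false), ([14], 34, false), ([14, 12], 30, false), ([14], 31, false), ([], 32, false), ([10], 10, false), ([], 33, false), ([12], 31, false), ([], 35, false), ([14], 34, false), ([14, 12], 32, false), ([14, 12, 10], 13, false), ([14, 12, 10, 2], 0, false), ([], 34, false), ([12], 32, false), ([12, 10], 21, false), ([], 31, false), ([], 35, false), ([14], 32, false), ([14, 10], 26, false), ([14], 33, false), ([14, 12], 31, false), ([14, 12, 10], 28, false), ([14, 12, 10, 8], 22, false), ([14], 31, false), ([14, 10], 28, false), ([14, 10, 8], 24, false), ([], 32, false), ([10], 29, false), ([10, 8], 25, false), ([10, 8, 6], 1, false), ([], 35, false), ([14], 32, false), ([14, 10], 29, false), ([14, 10, 8], 3, false), ([14], 33, false), ([], 34, false), ([12], 4, false), ([], 35, false), ([14], 6, false), ([], 7, false), ([0], 1, false)],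
    [([18], 8, false), ([], 43, true), ([12, 8, 6, 4, 0], 43, true), ([12, 8, 6, 4], 6, true), ([12, 8, 6], 20, true), ([12, 8], 25, true), ([12], 29, true), ([], 34, true), ([14, 12, 8, 6], 19, true), ([14, 12, 8], 24, true), ([14, 12], 28, true), ([14], 33, true), ([14, 8, 6, 4], 4, true), ([14, 8, 6], 20, true), ([14, 8], 25, true), ([14], 29, true), ([], 35, true), ([8, 6], 19, true), ([8], 24, true), ([], 28, true), ([12, 8, 6], 18, true), ([12, 8], 24, true), ([12], 28, true), ([], 33, true), ([8], 23, true), ([], 29, true), ([14], 27, true), ([14, 10, 8, 6], 17, true), ([14, 10, 8], 25, true), ([14, 10], 29, true), ([14], 32, true), ([], 35, true), ([10, 8], 24, true), ([10], 28, true), ([], 31, true), ([12, 10, 8], 22, true), ([12, 10], 28, true), ([12], 31, true), ([], 33, true), ([10], 26, true), ([], 32, true), ([14], 31, true), ([14, 12, 10, 6, 4], 3, true), ([14, 12, 10, 6], 20, true), ([14, 12, 10], 25, true), ([14, 12], 32, true), ([14], 34, true),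 ([], 35, true), ([12, 10, 6], 16, true), ([12, 10], 24, true), ([12], 31, true), ([], 33, true), ([10], 21, true), ([], 32, true), ([14, 10, 4], 2, true), ([14, 10], 20, true), ([14], 32, true), ([], 35, true), ([10], 18, true), ([], 31, true), ([12], 30, true), ([], 34, true), ([14, 12], 16, true), ([14], 33, true), ([14, 6], 15, true), ([14], 25, true), ([], 35, true), ([], 24, true), ([12, 6], 0, true), ([12], 24, true), ([], 33, true), ([], 21, true), ([], 46, false)],
    [([18], 35, false), ([18, 14], 21, false), ([18, 14], 33, false), ([18], 34, false), ([18, 12], 26, false), ([18], 28, false), ([18, 8], 22, false), ([18], 33, false), ([18, 12], 28, false), ([18, 12, 8], 24, false), ([], 44, true), ([14, 4, 2, 0], 44, true), ([14, 4, 2], 7, true), ([14, 4], 14, true), ([14], 20, true), ([], 35, true), ([4, 2], 2, true), ([4], 14, true), ([], 20, true), ([14, 4], 12, true), ([14], 18, true), ([14, 12, 10, 4], 10, true), ([14, 12, 10], 20, true), ([14, 12], 32,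 true), ([14], 34, true), ([], 35, true), ([12, 10], 19, true), ([12], 31, true), ([], 33, true), ([10], 18, true), ([], 31, true), ([12], 30, true), ([], 34, true), ([14, 12], 16, true), ([14], 33, true), ([14, 6, 4], 9, true), ([14, 6], 19, true), ([14], 24, true), ([14, 12, 6], 17, true), ([14, 12], 25, true), ([14], 34, true), ([], 35, true), ([12], 24, true), ([], 33, true), ([], 22, true), ([12, 8, 6], 16, true), ([12, 8], 24, true), ([12], 28, true), ([], 33, true), ([8], 21, true), ([], 29, true), ([14, 8], 15, true), ([14], 29, true), ([], 35, true), ([], 28, true), ([12, 8, 2], 1, true), ([12, 8], 14, true), ([12], 29, true), ([], 34, true), ([14, 12, 8], 13, true), ([14, 12], 29, true), ([14], 34, true), ([], 35, true), ([12], 28, true), ([], 33, true), ([8], 11, true), ([], 29, true), ([14], 28, true), ([14, 12], 27, true), ([14, 12, 10], 26, true), ([14, 12], 32, true), ([14], 34, true), ([], 35, true), ([12], 31, true), ([], 33, true), ([10], 10, true),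 ([], 32, true), ([14], 31, true), ([14, 12], 30, true), ([14], 34, true), ([], 35, true), ([12, 6], 8, true), ([12], 25, true), ([], 34, true), ([14, 12, 6], 0, true), ([14, 12], 24, true), ([14], 33, true), ([14], 21, true), ([], 35, true)],
    [([18], 32, false), ([18, 10], 21, false), ([18], 33, false), ([18, 12], 31, false), ([18, 12, 10], 24, false), ([18, 12, 10, 6], 0, false), ([18], 31, false), ([18, 10], 24, false), ([18], 35, false), ([18, 14], 32, false), ([18, 14, 10], 25, false), ([18, 14, 10, 6], 15, false), ([18, 14], 33, false), ([18, 14, 12], 31, false), ([18, 14, 12, 10], 16, false), ([18, 14], 18, false), ([18], 20, false), ([18, 4], 2, false), ([], 42, true), ([14, 12, 6, 4, 2, 0], 42, true), ([14, 12, 6, 4, 2], 7, true), ([14, 12, 6, 4], 14, true), ([14, 12, 6], 20, true), ([14, 12], 25, true), ([14], 34, true), ([], 35, true), ([12, 6, 4, 2], 6, true), ([12, 6, 4], 14, true), ([12, 6], 20, true), ([12], 25, true), ([], 34, true), ([14, 12, 6,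 4], 13, true), ([14, 12, 6], 20, true), ([14, 12], 25, true), ([14], 34, true), ([], 35, true), ([12, 6], 19, true), ([12], 24, true), ([], 33, true), ([6, 4, 2], 3, true), ([6, 4], 14, true), ([6], 20, true), ([], 25, true), ([14, 6, 4], 10, true), ([14, 6], 20, true), ([14], 25, true), ([], 35, true), ([6], 19, true), ([], 24, true), ([12, 6], 18, true), ([12], 24, true), ([], 33, true), ([], 23, true), ([14, 10, 6], 16, true), ([14, 10], 24, true), ([14], 31, true), ([14, 12, 10], 21, true), ([14, 12], 32, true), ([14], 34, true), ([], 35, true), ([12, 10, 4, 2], 2, true), ([12, 10, 4], 14, true), ([12, 10], 20, true), ([12], 32, true), ([], 34, true), ([14, 12, 10, 4], 12, true), ([14, 12, 10], 18, true), ([14, 12], 31, true), ([14], 33, true), ([14], 30, true), ([], 35, true), ([4], 10, true), ([], 20, true), ([14], 19, true), ([14, 12], 18, true), ([14], 33, true), ([14, 10], 16, true), ([14], 31, true), ([14, 12, 10, 6, 4], 9, true), ([14, 12, 10, 6], 19, true),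 ([14, 12, 10], 24, true), ([14, 12], 31, true), ([14], 33, true), ([14, 10, 6], 17, true), ([14, 10], 25, true), ([14], 32, true), ([], 35, true), ([10], 24, true), ([], 31, true), ([12, 10], 22, true), ([12], 31, true), ([], 33, true), ([10, 8, 6], 16, true), ([10, 8], 24, true), ([10], 28, true), ([], 31, true), ([12, 10, 8], 21, true), ([12, 10], 29, true), ([12], 32, true), ([], 34, true), ([14, 12, 10, 8], 15, true), ([14, 12, 10], 29, true), ([14, 12], 32, true), ([14], 34, true), ([], 35, true), ([12, 10], 28, true), ([12], 31, true), ([], 33, true), ([10, 8, 2], 1, true), ([10, 8], 14, true), ([10], 29, true), ([], 32, true), ([14, 10, 8], 13, true), ([14, 10], 29, true), ([14], 32, true), ([], 35, true), ([10], 28, true), ([], 31, true), ([12, 10, 8], 11, true), ([12, 10], 29, true), ([12], 32, true), ([], 34, true), ([14, 12, 10], 28, true), ([14, 12], 31, true), ([14], 33, true), ([14, 10], 27, true), ([14], 30, true), ([], 35, true), ([], 26, true), ([14,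 12], 10, true), ([14], 34, true), ([], 35, true), ([], 33, true), ([10, 6], 8, true), ([10], 25, true), ([], 32, true), ([14, 10, 6], 0, true), ([14, 10], 24, true), ([14], 31, true), ([14, 12, 10], 21, true), ([14, 12], 32, true), ([14], 34, true), ([], 35, true), ([], 35, false), ([14], 45, false), ([], 46, false)],
    [([18], 28, false), ([18, 8], 16, false), ([18], 33, false), ([18], 35, false), ([18, 14], 34, false), ([18, 14, 12], 17, false), ([18, 14], 19, false), ([18], 20, false), ([18, 4], 1, false), ([], 42, true), ([14, 12, 6, 4, 2, 0], 43, true), ([14, 12, 6, 4, 2], 6, true), ([14, 12, 6, 4], 14, true), ([14, 12, 6], 20, true), ([14, 12], 25, true), ([14], 34, true), ([], 35, true), ([12, 6, 4], 13, true), ([12, 6], 20, true), ([12], 25, true), ([], 34, true), ([14, 12, 6], 19, true), ([14, 12], 24, true), ([14], 33, true), ([14, 6, 4, 2], 4, true), ([14, 6, 4], 14, true), ([14, 6], 20, true), ([14], 25, true), ([], 35, true), ([6, 4], 13, true), ([6],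 20, true), ([], 25, true), ([14, 6], 19, true), ([14], 24, true), ([14, 12, 6, 4], 12, true), ([14, 12, 6], 18, true), ([14, 12], 24, true), ([14], 33, true), ([14], 23, true), ([], 35, true), ([10, 6, 4], 11, true), ([10, 6], 20, true), ([10], 25, true), ([], 32, true), ([14, 10, 6], 19, true), ([14, 10], 24, true), ([14], 31, true), ([14, 12, 10, 6], 18, true), ([14, 12, 10], 24, true), ([14, 12], 31, true), ([14], 33, true), ([14, 10], 23, true), ([14], 32, true), ([], 35, true), ([], 30, true), ([14, 6], 17, true), ([14], 25, true), ([], 35, true), ([], 24, true), ([12], 22, true), ([], 33, true), ([8, 6, 4, 2], 3, true), ([8, 6, 4], 14, true), ([8, 6], 20, true), ([8], 25, true), ([], 29, true), ([14, 8, 6, 4], 10, true), ([14, 8, 6], 20, true), ([14, 8], 25, true), ([14], 29, true), ([], 35, true), ([8, 6], 19, true), ([8], 24, true), ([], 28, true), ([12, 8, 6], 18, true), ([12, 8], 24, true), ([12], 28, true), ([], 33, true), ([8], 23, true), ([], 29, true),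 ([14], 27, true), ([14, 10, 8, 6], 16, true), ([14, 10, 8], 24, true), ([14, 10], 28, true), ([14], 31, true), ([14, 12, 10, 8], 21, true), ([14, 12, 10], 29, true), ([14, 12], 32, true), ([14], 34, true), ([], 35, true), ([12, 10, 8, 4, 2], 2, true), ([12, 10, 8, 4], 14, true), ([12, 10, 8], 20, true), ([12, 10], 29, true), ([12], 32, true), ([], 34, true), ([14, 12, 10, 8, 4], 12, true), ([14, 12, 10, 8], 18, true), ([14, 12, 10], 28, true), ([14, 12], 31, true), ([14], 33, true), ([14, 10], 27, true), ([14], 30, true), ([], 35, true), ([8, 4], 10, true), ([8], 20, true), ([], 29, true), ([14, 8], 19, true), ([14], 28, true), ([14, 12, 8], 18, true), ([14, 12], 28, true), ([14], 33, true), ([14], 27, true), ([14, 10, 8], 16, true), ([14, 10], 28, true), ([14], 31, true), ([14, 12, 10, 8, 6, 4], 9, true), ([14, 12, 10, 8, 6], 19, true), ([14, 12, 10, 8], 24, true), ([14, 12, 10], 28, true), ([14, 12], 31, true), ([14], 33, true), ([14, 10, 8, 6], 17, true), ([14,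 10, 8], 25, true), ([14, 10], 29, true), ([14], 32, true), ([], 35, true), ([10, 8], 24, true), ([10], 28, true), ([], 31, true), ([12, 10, 8], 22, true), ([12, 10], 28, true), ([12], 31, true), ([], 33, true), ([10], 26, true), ([], 32, true), ([14], 31, true), ([14, 12, 10, 6], 16, true), ([14, 12, 10], 24, true), ([14, 12], 31, true), ([14], 33, true), ([14, 10], 21, true), ([14], 32, true), ([], 35, true), ([10], 15, true), ([], 32, true), ([14], 31, true), ([14, 12, 10, 2], 0, true), ([14, 12, 10], 13, true), ([14, 12], 32, true), ([14], 34, true), ([], 35, true), ([12], 31, true), ([], 33, true), ([10], 10, true), ([], 32, true), ([14], 31, true), ([14, 12], 30, true), ([14], 34, true), ([], 35, true), ([], 35, false), ([14], 34, false), ([14, 12], 30, false), ([14], 31, false), ([], 32, false), ([10], 10, false), ([], 33, false), ([12], 31, false), ([], 35, false), ([14], 34, false), ([14, 12], 32, false), ([14, 12, 10], 13, false), ([14, 12, 10, 2], 0, false),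 ([], 34, false), ([12], 32, false), ([12, 10], 21, false), ([], 31, false), ([], 35, false), ([14], 32, false), ([14, 10], 26, false), ([14], 33, false), ([14, 12], 31, false), ([14, 12, 10], 28, false), ([14, 12, 10, 8], 22, false), ([14], 31, false), ([14, 10], 28, false), ([14, 10, 8], 24, false), ([], 32, false), ([10], 29, false), ([10, 8], 25, false), ([10, 8, 6], 1, false), ([], 33, false), ([12], 31, false), ([12, 10], 28, false), ([12, 10, 8], 24, false), ([], 35, false), ([14], 34, false), ([14, 12], 32, false), ([14, 12, 10], 29, false), ([14, 12, 10, 8], 25, false), ([14, 12, 10, 8, 6], 15, false), ([14], 31, false), ([14, 10], 28, false), ([14, 10, 8], 16, false), ([14], 27, false), ([14], 33, false), ([14, 12], 28, false), ([14, 12, 8], 18, false), ([], 34, false), ([12], 29, false), ([12, 8], 20, false), ([12, 8, 4], 2, false), ([], 35, false), ([14], 34, false), ([14, 12], 29, false), ([14, 12, 8], 21, false), ([14], 28, false), ([14, 8], 24, false),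 ([14, 8, 6], 16, false), ([], 29, false), ([8], 25, false), ([8, 6], 20, false), ([8, 6, 4], 3, false), ([], 33, false), ([12], 28, false), ([12, 8], 24, false), ([12, 8, 6], 19, false), ([], 35, false), ([14], 34, false), ([14, 12], 29, false), ([14, 12, 8], 25, false), ([14, 12, 8, 6], 20, false), ([14, 12, 8, 6, 4], 6, false), ([], 34, false), ([12], 29, false), ([12, 8], 25, false), ([12, 8, 6], 20, false), ([12, 8, 6, 4], 7, false), ([12, 8, 6, 4, 0], 42, false), ([], 43, false), ([18], 9, true)],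
    [([18], 31, false), ([18, 10], 28, false), ([18, 10, 8], 16, false), ([18], 35, false), ([18, 14], 32, false), ([18, 14, 10], 29, false), ([18, 14, 10, 8], 20, false), ([18, 14, 10, 8, 4], 3, false), ([18, 14], 33, false), ([18, 14, 12], 31, false), ([18], 34, false), ([18, 12], 32, false), ([18, 12, 10], 17, false), ([18], 18, false), ([18], 33, false), ([18, 12], 19, false), ([18], 35, false), ([18, 14], 34, false), ([18, 14, 12], 20, false), ([18, 14, 12, 4], 4, false), ([18, 14], 19, false), ([18], 20, false), ([18, 4], 6, false), ([], 42, true), ([14, 12, 6, 4, 2, 0], 44, true), ([14, 12, 6, 4, 2], 7, true), ([14, 12, 6, 4], 14, true), ([14, 12, 6], 20, true), ([14, 12], 25, true), ([14], 34, true), ([], 35, true), ([12, 6, 4, 2], 2, true), ([12, 6, 4], 14, true), ([12, 6], 20, true), ([12], 25, true), ([], 34, true), ([14, 12, 6, 4], 12, true), ([14, 12, 6], 18, true), ([14, 12], 24, true), ([14], 33, true), ([14], 23, true), ([], 35, true), ([10, 6, 4],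 10, true), ([10, 6], 20, true), ([10], 25, true), ([], 32, true), ([14, 10, 6], 19, true), ([14, 10], 24, true), ([14], 31, true), ([14, 12, 10, 6], 18, true), ([14, 12, 10], 24, true), ([14, 12], 31, true), ([14], 33, true), ([14, 10], 23, true), ([14], 32, true), ([], 35, true), ([], 30, true), ([14, 6], 16, true), ([14], 24, true), ([14, 12], 21, true), ([14], 34, true), ([], 35, true), ([12, 4], 9, true), ([12], 19, true), ([], 33, true), ([], 17, true), ([14, 12, 8], 16, true), ([14, 12], 28, true), ([14], 33, true), ([14, 8, 6], 15, true), ([14, 8], 25, true), ([14], 29, true), ([], 35, true), ([8], 24, true), ([], 28, true), ([12, 8, 6, 2], 1, true), ([12, 8, 6], 14, true), ([12, 8], 25, true), ([12], 29, true), ([], 34, true), ([14, 12, 8, 6], 13, true), ([14, 12, 8], 25, true), ([14, 12], 29, true), ([14], 34, true), ([], 35, true), ([12, 8], 24, true), ([12], 28, true), ([], 33, true), ([8, 6], 11, true), ([8], 25, true), ([], 29, true), ([14, 8], 24, true),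 ([14], 28, true), ([14, 12, 8], 23, true), ([14, 12], 29, true), ([14], 34, true), ([], 35, true), ([12], 27, true), ([12, 10, 8], 22, true), ([12, 10], 28, true), ([12], 31, true), ([], 33, true), ([10], 26, true), ([], 32, true), ([14], 31, true), ([14, 12, 10, 6], 10, true), ([14, 12, 10], 25, true), ([14, 12], 32, true), ([14], 34, true), ([], 35, true), ([12, 10], 24, true), ([12], 31, true), ([], 33, true), ([10], 23, true), ([], 32, true), ([14], 30, true), ([], 35, true), ([], 21, true), ([14], 8, true), ([], 35, true), ([], 0, true), ([], 0, false), ([], 35, false), ([14], 8, false), ([], 21, false), ([], 35, false), ([14], 30, false), ([], 32, false), ([10], 23, false), ([], 33, false), ([12], 31, false), ([12, 10], 24, false), ([], 35, false), ([14], 34, false), ([14, 12], 32, false), ([14, 12, 10], 25, false), ([14, 12, 10, 6], 10, false), ([14], 31, false), ([], 32, false), ([10], 26, false), ([], 33, false), ([12], 31, false), ([12, 10], 28, false),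 ([12, 10, 8], 22, false), ([12], 27, false), ([], 35, false), ([14], 34, false), ([14, 12], 29, false), ([14, 12, 8], 23, false), ([14], 28, false), ([14, 8], 24, false), ([], 29, false), ([8], 25, false), ([8, 6], 11, false), ([], 33, false), ([12], 28, false), ([12, 8], 24, false), ([], 35, false), ([14], 34, false), ([14, 12], 29, false), ([14, 12, 8], 25, false), ([14, 12, 8, 6], 13, false), ([], 34, false), ([12], 29, false), ([12, 8], 25, false), ([12, 8, 6], 14, false), ([12, 8, 6, 2], 1, false), ([], 28, false), ([8], 24, false), ([], 35, false), ([14], 29, false), ([14, 8], 25, false), ([14, 8, 6], 15, false), ([14], 33, false), ([14, 12], 28, false), ([14, 12, 8], 16, false), ([], 17, false), ([], 33, false), ([12], 19, false), ([12, 4], 9, false), ([], 35, false), ([14], 34, false), ([14, 12], 21, false), ([14], 24, false), ([14, 6], 16, false), ([], 30, false), ([], 35, false), ([14], 32, false), ([14, 10], 23, false), ([14], 33, false), ([14, 12], 31,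 false), ([14, 12, 10], 24, false), ([14, 12, 10, 6], 18, false), ([14], 31, false), ([14, 10], 24, false), ([14, 10, 6], 19, false), ([], 32, false), ([10], 25, false), ([10, 6], 20, false), ([10, 6, 4], 10, false), ([], 35, false), ([14], 23, false), ([14], 33, false), ([14, 12], 24, false), ([14, 12, 6], 18, false), ([14, 12, 6, 4], 12, false), ([], 34, false), ([12], 25, false), ([12, 6], 20, false), ([12, 6, 4], 14, false), ([12, 6, 4, 2], 2, false), ([], 16, false), ([], 35, false), ([14], 30, false), ([14], 33, false), ([14, 12], 31, false), ([14, 12, 10], 18, false), ([14], 31, false), ([14, 10], 19, false), ([], 32, false), ([10], 20, false), ([10, 4], 10, false), ([], 35, false), ([14], 32, false), ([14, 10], 20, false), ([14, 10, 4], 14, false), ([14, 10, 4, 2], 3, false), ([14], 33, false), ([14, 12], 31, false), ([14, 12, 10], 19, false), ([], 34, false), ([12], 32, false), ([12, 10], 20, false), ([12, 10, 4], 13, false), ([], 35, false), ([14], 34, false),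 ([14, 12], 32, false), ([14, 12, 10], 20, false), ([14, 12, 10, 4], 14, false), ([14, 12, 10, 4, 2], 6, false), ([], 34, false), ([12], 32, false), ([12, 10], 20, false), ([12, 10, 4], 14, false), ([12, 10, 4, 2], 7, false), ([], 35, false), ([14], 34, false), ([14, 12], 32, false), ([14, 12, 10, 14, 4, 2, 0], 42, false), ([14, 12, 10], 44, false), ([], 45, false), ([18], 31, true)]]
  vecs := [
    [0, 0, 0, 0, 0, 0, 0, 0, 0, 0, 0, 0, 0, 0, 1],
    [0, 0, 0, 0, 0, 0, 0, 0, 0, 0, 0, 0, 0, 0, 0, 0, 0, 0, 0, 0, 0, 0, 0, 0, 0, 1],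
    [0, 0, 0, 0, 0, 0, 0, 0, 0, 0, 0, 0, 0, 0, 0, 0, 0, 0, 0, 0, 0, 0, 0, 0, 0, 0, 0, 0, 0, 0, 0, 0, 1],
    [0, 0, 0, 0, 0, 0, 0, 0, 0, 0, 0, 0, 0, 0, 0, 0, 0, 0, 0, 1, 1],
    [0, 0, 0, 0, 0, 0, 0, 0, 0, 0, 0, 0, 0, 0, 0, 0, 0, 0, 0, 0, 0, 0, 0, 0, 0, 0, 0, 0, 1, 1],
    [0, 0, 0, 0, 0, 0, 0, 0, 0, 0, 0, 0, 0, 0, 0, 0, 0, 0, 0, 0, 0, 0, 0, 0, 0, 0, 0, 0, 0, 0, 0, 0, 0, 0, 1],
    [0, 0, 0, 0, 0, 0, 0, 0, 0, 0, 0, 0, 0, 0, 0, 0, 0, 0, 0, 0, 0, 0, 0, 0, 0, 0, 0, 0, 0, 1, 0],
    [0, 0, 0, 0, 0, 0, 0, 0, 0, 0, 0, 0, 0, 0, 0, 0, 0, 0, 0, 0, 0, 0, 0, 0, 0, 0, 0, 0, 0, 0, 0, 0, 0, 0, 0, 0, 0, 0, 0, 0, 0, 1],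
    [0, 0, 0, 1, 0, 0, 1, 0, 0, 0, 0, 0, 0, 0, 0, 0, 0, 0, 0, 0, 0, 0, 0, 0, 0, 0, 0, 0, 0, 0, 0, 0, 0, 0, 1, 1],
    [0, 0, 0, 0, 0, 0, 0, 0, 0, 0, 0, 0, 0, 0, 0, 0, 0, 0, 0, 0, 0, 0, 0, 0, 0, 0, 0, 0, 0, 0, 0, 0, 0, 0, 1, 1],
    [0, 0, 0, 0, 0, 0, 0, 0, 0, 0, 0, 0, 0, 0, 0, 0, 0, 0, 0, 0, 0, 0, 0, 0, 0, 0, 0, 0, 0, 0, 0, 1, 1],
    [0, 0, 0, 0, 0, 0, 0, 1, 0, 0, 0, 0, 0, 0, 0, 0, 0, 0, 0, 0, 0, 0, 0, 0, 0, 1, 0, 0, 0, 0, 0, 0, 0, 0, 0, 1],
    [0, 0, 0, 0, 0, 0, 0, 1, 0, 0, 0, 0, 0, 0, 0, 0, 0, 0, 0, 0, 0, 0, 0, 0, 0, 0, 0, 0, 0, 0, 0, 1, 0, 1],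
    [0, 0, 0, 0, 0, 0, 0, 0, 0, 0, 0, 0, 0, 0, 0, 0, 0, 0, 0, 0, 1, 0, 0, 0, 1, 0, 0, 0, 0, 0, 0, 0, 0, 1],
    [0, 0, 0, 0, 0, 0, 0, 0, 0, 0, 0, 0, 0, 0, 0, 0, 0, 0, 0, 0, 1, 0, 0, 0, 0, 0, 0, 0, 0, 0, 0, 1, 0, 1],
    [0, 0, 0, 0, 0, 0, 1, 0, 0, 0, 0, 0, 0, 0, 0, 0, 0, 0, 0, 0, 0, 0, 0, 1, 0, 0, 0, 0, 0, 0, 0, 1, 0, 1, 1],
    [0, 0, 0, 0, 0, 0, 0, 0, 0, 0, 0, 0, 0, 0, 0, 0, 0, 0, 0, 0, 0, 0, 0, 0, 0, 0, 0, 0, 0, 0, 0, 1, 1, 1, 1, 1, 0, 0, 0, 0, 0, 0, 0, 0, 0, 0, 1],
    [0, 0, 0, 0, 0, 0, 0, 0, 0, 0, 0, 0, 0, 0, 0, 0, 0, 0, 0, 0, 0, 1, 0, 1, 1, 0, 0, 0, 0, 0, 0, 1, 1, 1, 0, 1, 0, 0, 0, 0, 0, 1],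
    [0, 0, 0, 0, 0, 0, 0, 0, 0, 0, 0, 0, 0, 0, 0, 0, 1, 0, 0, 0, 0, 0, 1, 1, 1, 0, 0, 0, 0, 0, 0, 1, 0, 1, 0, 1, 0, 0, 0, 0, 1],
    [0, 0, 0, 0, 0, 0, 0, 0, 0, 0, 0, 0, 0, 0, 0, 1, 0, 0, 0, 0, 0, 0, 0, 0, 0, 0, 1, 1, 1, 0, 1, 1, 0, 1, 0, 0, 0, 0, 0, 0, 1, 1],
    [0, 0, 0, 0, 0, 0, 0, 0, 0, 0, 0, 0, 1, 1, 1, 0, 0, 0, 0, 0, 0, 0, 0, 0, 0, 1, 0, 0, 0, 0, 1, 1, 1, 1, 1, 0],
    [0, 0, 0, 0, 0, 0, 0, 0, 0, 0, 0, 0, 0, 1, 0, 0, 0, 0, 0, 0, 0, 0, 0, 1, 1, 0, 0, 1, 1, 1, 0, 1, 0, 0],
    [0, 0, 0, 0, 0, 0, 0, 0, 0, 0, 0, 0, 0, 0, 1, 0, 0, 0, 0, 0, 0, 0, 0, 1, 1, 1, 0, 0, 0, 0, 1, 1, 0, 1, 1, 0],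
    [0, 0, 0, 0, 0, 0, 1, 1, 0, 0, 0, 0, 0, 0, 0, 0, 0, 0, 0, 0, 0, 0, 0, 0, 0, 0, 0, 1, 1, 1, 1, 1, 1, 1, 1, 1],
    [0, 0, 0, 0, 0, 1, 1, 1, 0, 0, 0, 0, 0, 0, 0, 0, 0, 0, 0, 0, 0, 0, 1, 0, 0, 0, 0, 0, 1, 0, 1, 1, 1, 1, 1, 0],
    [0, 0, 0, 0, 0, 0, 0, 0, 0, 0, 0, 0, 0, 0, 0, 1, 1, 0, 1, 0, 0, 1, 0, 1, 0, 0, 1, 0, 0, 0, 1, 1, 1, 1, 0, 1, 0, 0, 0, 0, 1, 1],
    [0, 0, 0, 1, 0, 1, 0, 1, 0, 0, 0, 0, 0, 0, 0, 0, 1, 0, 0, 1, 0, 1, 0, 1, 0, 1, 0, 0, 0, 0, 1, 0, 1, 1, 1, 1],
    [0, 0, 0, 0, 0, 0, 0, 0, 0, 0, 0, 0, 0, 1, 1, 0, 1, 1, 0, 1, 0, 1, 1, 0, 1, 1, 1, 0, 1, 1, 0, 0, 0, 1, 0, 1],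
    [0, 0, 0, 0, 0, 0, 0, 0, 0, 0, 1, 1, 0, 1, 0, 0, 0, 0, 0, 0, 1, 1, 1, 0, 1, 0, 1, 1, 1, 1, 1, 1, 1, 1, 1, 1],
    [0, 0, 0, 1, 1, 0, 1, 1, 0, 0, 1, 0, 0, 1, 0, 0, 0, 0, 0, 0, 0, 1, 1, 0, 1, 1, 1, 0, 0, 0, 1, 1, 0, 1, 0, 1],
    [1, 0, 1, 1, 1, 0, 1, 0, 1, 0, 0, 0, 0, 0, 0, 1, 0, 1, 0, 0, 0, 0, 1, 1, 1, 1, 1, 1, 1, 0, 1, 1, 1, 0, 1, 1, 0, 0, 0, 0, 0, 0, 0, 0, 0, 0, 1],
    [1, 1, 1, 0, 0, 0, 0, 1, 1, 1, 0, 1, 1, 1, 1, 1, 0, 1, 0, 0, 1, 1, 0, 0, 1, 0, 0, 1, 0, 1, 0, 0, 1, 1, 1, 1, 0, 0, 0, 0, 0, 0, 0, 0, 0],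
    [0, 1, 0, 1, 0, 0, 1, 1, 1, 1, 1, 1, 1, 0, 1, 0, 0, 1, 0, 0, 0, 0, 1, 1, 0, 0, 1, 1, 0, 1, 0, 0, 0, 1, 0, 1, 0, 0, 0, 0, 0, 0, 0, 0, 0, 1, 1],
    [0, 0, 0, 0, 1, 0, 0, 1, 0, 0, 0, 1, 0, 0, 0, 0, 0, 1, 0, 0, 0, 0, 1, 1, 0, 0, 0, 0, 0, 0, 0, 0, 0, 1, 1, 1, 0, 0, 0, 0, 0, 0, 0, 0],
    [0, 0, 0, 0, 1, 0, 0, 0, 0, 0, 1, 0, 0, 1, 0, 0, 0, 1, 0, 0, 1, 0, 0, 0, 0, 1, 0, 0, 1, 1, 1, 0, 0, 0, 1, 1, 0, 0, 0, 0, 0, 0, 0, 0, 0, 1]]
  adj := [
    [0, 0, 0, 0, 0, 0, 0, 0, 0, 0, 0, 0, 0, 0, 0, 0, 0, 0, 0, 0, 0, 0, 0, 0, 0, 0, 0, 0, 0, 0, 0, 0, 0, 0, 0, 0, 0, 0, 0, 0, 0, 0, 0, 0, 0, 0, 0],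
    [0, 0, 0, 0, 0, 0, 0, 0, 0, 0, 0, 0, 0, 0, 0, 0, 0, 0, 0, 0, 0, 0, 0, 0, 0, 0, 0, 0, 0, 0, 0, 0, 0, 0, 0, 0, 0, 0, 0, 0, 0, 0, 0, 0, 0, 0, 0],
    [0, 0, 0, 0, 0, 0, 0, 0, 0, 0, 0, 0, 0, 0, 0, 0, 0, 0, 0, 0, 0, 0, 0, 0, 0, 0, 0, 0, 0, 0, 0, 0, 0, 0, 0, 0, 0, 0, 0, 0, 0, 0, 0, 0, 0, 0, 0],
    [1, 0, 0, 0, 0, 1, 0, 0, 0, 0, 0, 0, 0, 0, 0, 0, 0, 0, 0, 0, 0, 0, 0, 0, 0, 0, 0, 0, 0, 0, 0, 0, 0, 0, 0, 0, 0, 0, 0, 0, 0, 0, 0, 0, 0, 0, 0],
    [1, 1, 0, 1, 0, 0, 0, 0, 0, 0, 0, 0, 0, 0, 0, 0, 0, 0, 0, 0, 0, 0, 0, 0, 0, 0, 0, 0, 0, 0, 0, 0, 0, 0, 0, 0, 0, 0, 0, 0, 0, 0, 0, 0, 0, 0, 0],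
    [1, 0, 1, 1, 0, 1, 0, 0, 0, 0, 0, 0, 0, 0, 0, 0, 0, 0, 0, 0, 0, 0, 0, 0, 0, 0, 0, 0, 0, 0, 0, 0, 0, 0, 0, 0, 0, 0, 0, 0, 0, 0, 0, 0, 0, 0, 0],
    [0, 0, 0, 0, 0, 1, 0, 0, 0, 0, 0, 0, 0, 0, 0, 0, 0, 0, 0, 0, 0, 0, 0, 0, 0, 0, 0, 0, 0, 0, 0, 0, 0, 0, 0, 0, 0, 0, 0, 0, 0, 0, 0, 0, 0, 0, 0],
    [0, 0, 0, 1, 0, 0, 0, 0, 0, 0, 0, 0, 0, 0, 0, 0, 0, 0, 0, 0, 0, 0, 0, 0, 0, 0, 0, 0, 0, 0, 0, 0, 0, 0, 0, 0, 0, 0, 0, 0, 0, 0, 0, 0, 0, 0, 0]]
  prf := [
    [],
    [],
    [],
    [],
    [(1, 1), (2, 1), (3, 1), (7, 1), (8, 1), (16, 1), (18, 1), (19, 1), (24, 1), (26, 1), (28, 1), (29, 1), (31, 1), (32, 1), (33, 1), (34, 1)],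
    [],
    [(8, 1), (9, 1)],
    [(1, 1), (5, 1), (9, 1), (11, 1)],
    [(0, 1), (1, 1), (2, 1), (4, 1), (5, 1), (6, 1), (7, 1), (8, 1), (9, 1), (10, 1), (12, 1), (17, 1), (22, 1), (23, 1), (30, 1), (31, 1), (32, 1), (34, 1)],
    [(1, 1), (4, 1), (5, 1), (6, 1), (7, 1), (8, 1), (9, 1), (12, 1), (14, 1), (16, 1), (17, 1), (20, 1), (21, 1), (22, 1), (23, 1), (24, 1), (26, 1), (27, 1), (30, 1), (31, 1), (33, 1)],
    [(0, 1), (3, 1), (5, 1), (6, 1), (11, 1), (12, 1), (13, 1), (15, 1), (16, 1), (17, 1), (18, 1), (19, 1), (23, 1), (27, 1), (29, 1), (31, 1), (32, 1), (34, 1)],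
    [(0, 1), (1, 1), (3, 1), (5, 1), (7, 1), (10, 1), (13, 1), (15, 1), (16, 1), (18, 1), (19, 1), (22, 1), (23, 1), (24, 1), (26, 1), (31, 1), (32, 1), (33, 1), (34, 1)],
    [(0, 1), (1, 1), (9, 1), (12, 1), (13, 1), (14, 1), (15, 1), (20, 1), (21, 1), (23, 1)],
    [(0, 1), (8, 1), (9, 1), (10, 1), (11, 1), (21, 1), (22, 1), (23, 1)],
    [(0, 1)],
    [(3, 1), (11, 1), (12, 1), (13, 1), (14, 1), (15, 1), (17, 1), (18, 1), (19, 1), (21, 1), (22, 1), (23, 1), (24, 1), (27, 1), (28, 1), (29, 1), (33, 1)],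
    [(0, 1), (2, 1), (3, 1), (5, 1), (7, 1), (8, 1), (9, 1), (10, 1), (12, 1), (14, 1), (15, 1), (17, 1), (22, 1), (26, 1)],
    [(4, 1), (6, 1), (9, 1), (10, 1), (11, 1), (12, 1), (14, 1), (15, 1), (23, 1), (24, 1), (28, 1), (29, 1), (33, 1)],
    [(3, 1), (6, 1), (8, 1), (9, 1), (10, 1), (11, 1), (12, 1), (14, 1), (19, 1), (23, 1), (25, 1), (26, 1)],
    [(1, 1), (3, 1), (5, 1), (9, 1), (11, 1), (12, 1), (14, 1)],
    [(1, 1), (5, 1), (9, 1), (11, 1), (12, 1), (14, 1)],
    [(7, 1), (8, 1), (10, 1), (13, 1), (14, 1), (15, 1), (17, 1)],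
    [(0, 1), (1, 1), (4, 1), (5, 1), (6, 1), (10, 1), (12, 1), (13, 1), (14, 1), (15, 1), (22, 1), (24, 1)],
    [(1, 1), (8, 1), (11, 1), (12, 1), (15, 1)],
    [(2, 1), (10, 1), (13, 1), (14, 1)],
    [(1, 1)],
    [(2, 1), (4, 1), (5, 1), (8, 1), (10, 1), (12, 1), (13, 1), (21, 1), (22, 1), (26, 1), (27, 1), (28, 1), (29, 1), (33, 1)],
    [(0, 1), (1, 1), (4, 1), (9, 1), (10, 1), (12, 1), (13, 1), (14, 1), (15, 1), (22, 1), (23, 1)],
    [(4, 1), (6, 1)],
    [(6, 1)],
    [(0, 1), (1, 1), (2, 1), (8, 1), (9, 1), (10, 1), (13, 1), (14, 1), (15, 1), (22, 1)],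
    [(2, 1), (10, 1)],
    [(2, 1)],
    [(1, 1), (2, 1), (5, 1), (9, 1), (10, 1), (11, 1), (12, 1)],
    [(5, 1)],
    [(5, 1), (9, 1)]]

/-- The elements as words in the ten letters. -/
def wordsTwo : List (List ℕ) := [
  [1, 2, 7, 8, 5, 6, 3, 1, 3, 4, 6, 2, 8, 3, 0, 5, 2, 1, 7, 5, 1, 5, 7, 1, 3, 3, 4],
  [5, 3, 4, 7, 5, 5, 2, 4, 6, 9, 4, 6, 8, 2, 5, 5, 3, 5, 7, 5, 2, 2, 4, 2, 2, 0, 0],
  [1, 7, 5, 3, 9, 0, 5, 3, 4, 6, 2, 8, 0, 5, 3, 4, 7, 5, 2, 2, 4, 1, 3, 5, 7, 1, 2, 5, 0],
  [7, 9, 7, 5, 1, 4, 0, 4, 1, 5, 8, 6, 8, 4, 4, 0, 5, 0, 5, 1, 4],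
  [1, 7, 5, 2, 9, 5, 7, 5, 8, 4, 6, 2, 8, 3, 5, 1, 7, 4, 3, 3, 5, 7, 3, 0, 5, 0, 4, 1],
  [1, 5, 9, 5, 3, 4, 6, 2, 4, 8, 6, 8, 1, 1, 7, 4, 2, 4, 0, 3, 4, 7, 4, 6, 5, 3, 0],
  [9, 2, 7, 5, 3, 9, 0, 5, 3, 4, 6, 2, 8, 0, 2, 2, 5, 2, 4, 7, 5, 2, 4, 1, 3, 5, 7, 5, 6, 3],
  [6, 6],
  [1, 7, 5, 9, 6, 2, 8, 6, 4, 9, 4, 6, 8, 1, 5, 1, 5, 7, 4, 0, 4, 0, 4, 6, 0, 5, 1],
  [0, 5, 2, 7, 5, 7, 8, 6, 4, 9, 4, 6, 2, 8, 1, 5, 1, 5, 3, 3, 1, 6, 3, 5, 2, 5, 6, 3, 1]]

/-- Separating orbits. -/
def orbitsTwo : List (List ℕ) := [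
  [0x1002001002002002000000002002001004002000000000003004003004004002004002002002003000000003000004004004003003002000000002001002004004002002003004002001000004000000000000003004004004004003004002004003004004000002002004001000001000000003000001003003000000002001004001000000000000000000000000000000000000000001000000002001],
  [0x1002004004003003002004003002004004000000000004001001004000003004001000000000000003004000000003004001003002001004000000001004003002003003001001001001004000002004004000004003003000002003001004003002003000004004001002000003000000003004003004003001003004002003004000001000000000001000004000000000000000003000000003002],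
  [0x1004000003001002000003004001004000000004002004002002002004003000001000000004001000003000001003001000004002002003004001000004002001004001001002001001003004000002002000002003001004001000004000000004001001000001000001000000004001003001001004003001000004002000004000000000004000004000000000000000004000000004003],
  [0x1001003001001001004004003003003000001002003001000003003001001000003000002004002003000000000002004002003004002004003003001001000000004001002000001004003002001000004004001003001002000004000000000000000001000000004004004002004004001000003004002000001000000000000000000000000000000000004000000002004],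
  [0x1002001000003003000001000003003004000002003000004000001001000000002002003004001000001000004002002002004000001000004000004000003003001004003003001001001003000001002000000002000002000003000000004003002004003000004000001000001000001000000000003000000000000000000000004000000003002],
  [0x1001000001000003003003001003002004002004004002001004002000001004000004004001002003002000003001001004001001003003003003004004003004000002004000002000000004001000003001002003000004001004000000000000000004000002000000000000000002000000002001],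
  [0x1],
  [0x1000000]]

end Cfsg.Agent.H94.Ly
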