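import Cfsg.Agent.H94.Ly.MultEngine
import Cfsg.Agent.H94.Ly.MultTwoCert
import Cfsg.Agent.H94.Ly.MultTwoData

/-!
Kernel checks of the certificate against stem extensions of Ly by two.
-/

set_option autoImplicit false
set_option maxRecDepth 100000
set_option Elab.async false

namespace Cfsg.Agent.H94.Ly

open Cfsg.Agent.H34.SylCert

theorem certTwo_ok : certTwo.check = true := by decide +kernel

theorem codesTwo_ok : codesOK wordsTwo codesTwo = true := by decide +kernel

theorem relsTwo_ok : relsOK certTwo codesTwo = true := by decide +kernel

theorem orbitsTwo_ok : ((List.range certTwo.n).all fun i =>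
    orbOK certTwo codesTwo i (orbitsTwo.getD i [])) = true := by decide +kernel

end Cfsg.Agent.H94.Ly
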