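import Cfsg.Agent.H27.LyRep.Card
import Cfsg.Agent.H94.Ly.MultTwoCheck
import Cfsg.Agent.H94.Ly.MultThreeCheck
import Cfsg.Agent.H94.Ly.MultFiveCheck

/-!
The presented Lyons group has trivial Schur multiplier.
-/

set_option autoImplicit false
set_option maxRecDepth 100000

namespace Cfsg.Agent.H94.Ly

open Cfsg.Agent.H27.LyRep
open Cfsg.Agent.Linear.Mult
open Cfsg.Agent.H34.SylCert

theorem orb_spec {C : Cert} {P : List (ℕ × ℕ)} {Os : List (List ℕ)}
    (h : ((List.range C.n).all fun i => orbOK C P i (Os.getD i [])) = true) :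
    ∀ i < C.n, orbOK C P i (Os.getD i []) = true := fun i hi =>
  List.all_eq_true.1 h i (List.mem_range.2 hi)

/-- The Schur multiplier of the presented Lyons group is trivial. -/
theorem multiplier : Cfsg.HasCyclicSchurMultiplier Cfsg.Spor.Ly 1 := by
  have hcard : Nat.card Cfsg.Spor.Ly = 51765179004000000 := card_ly
  have hfin : Finite Cfsg.Spor.Ly :=
    Nat.finite_of_card_ne_zero (by rw [hcard]; norm_num)
  have hinj : Function.Injective rho := rho_injective
  refine hasTrivialMultiplier_of_noStem fun l hl => ?_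
  by_cases h2 : l = 2
  · subst h2
    exact noStem_of_data codesTwo_ok hinj certTwo orbitsTwo certTwo_ok relsTwo_ok
      (orb_spec orbitsTwo_ok) Nat.prime_two (by rw [hcard]; decide +kernel)
  by_cases h3 : l = 3
  · subst h3
    exact noStem_of_data codesThree_ok hinj certThree orbitsThree certThree_ok relsThree_ok
      (orb_spec orbitsThree_ok) Nat.prime_three (by rw [hcard]; decide +kernel)
  by_cases h5 : l = 5
  · subst h5
    exact noStem_of_data codesFive_ok hinj certFive orbitsFive certFive_ok relsFive_ok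
      (orb_spec orbitsFive_ok) (show Nat.Prime _ by exact hl) (by rw [hcard]; decide +kernel)
  refine noStem_of_not_sq_dvd hl fun hd => ?_
  rw [hcard, show 51765179004000000 = 2 ^ 8 * (3 ^ 7 * (5 ^ 6 * (7 * (11 * (31 * (37 * 67))))))
    by norm_num] at hd
  have c : ∀ p k : ℕ, p.Prime → l ≠ p → Nat.Coprime (l ^ 2) (p ^ k) := fun p k hp hne =>
    Nat.Coprime.pow 2 k ((Nat.coprime_primes hl hp).2 hne)
  have hd2 := (c 5 6 (by norm_num) h5).dvd_of_dvd_mul_left
    ((c 3 7 Nat.prime_three h3).dvd_of_dvd_mul_left ((c 2 8 Nat.prime_two h2).dvd_of_dvd_mul_left hd))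
  have hl1 : ∀ p : ℕ, p.Prime → l ^ 2 ∣ p * 1 → False := fun p hp h => by
    rw [mul_one] at h
    have e : l = p := (Nat.prime_dvd_prime_iff_eq hl hp).1 ((dvd_pow_self l two_ne_zero).trans h)
    subst e
    have := Nat.le_of_dvd hl.pos h
    nlinarith [hl.two_le]
  have step : ∀ p m : ℕ, p.Prime → l ^ 2 ∣ p * m → l = p ∨ l ^ 2 ∣ m := fun p m hp h => by
    by_cases e : l = p
    · exact Or.inl e
    · exact Or.inr ((Nat.Coprime.pow_left 2 ((Nat.coprime_primes hl hp).2 e)).dvd_of_dvd_mul_left h)
  rcases step 7 _ (by norm_num) hd2 with rfl | h11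
  · revert hd2; norm_num
  rcases step 11 _ (by norm_num) h11 with rfl | h31
  · revert hd2; norm_num
  rcases step 31 _ (by norm_num) h31 with rfl | h37
  · revert hd2; norm_num
  rcases step 37 _ (by norm_num) h37 with rfl | h67
  · revert hd2; norm_num
  exact hl1 67 (by norm_num) (by rw [mul_one]; exact h67)

end Cfsg.Agent.H94.Ly
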