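import Cfsg.Agent.H34.SylCert.LowerBound
import Cfsg.Agent.H27.LyRep.Main

/-!
Certificates against stem extensions of the presented Lyons group, checked in the 111-dimensional
representation over the field with five elements.
-/

set_option autoImplicit false
set_option maxRecDepth 100000
set_option maxHeartbeats 400000

namespace Cfsg.Agent.H94.Ly

open Cfsg.Agent.Compute Cfsg.Agent.H27.LyRep
open Cfsg.Agent.H34.SylCert
open Cfsg.Agent.Linear.Mult
open Cfsg.Agent.H45 (evalW)

local instance : Fact (Nat.Prime 5) := ⟨by norm_num⟩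

/-- The five generators. -/
def psiL : Fin 5 → Cfsg.Spor.Ly :=
  ![PresentedGroup.of Cfsg.Spor.Ly.Gen.a, PresentedGroup.of Cfsg.Spor.Ly.Gen.b,
    PresentedGroup.of Cfsg.Spor.Ly.Gen.c, PresentedGroup.of Cfsg.Spor.Ly.Gen.d,
    PresentedGroup.of Cfsg.Spor.Ly.Gen.z]

theorem rho_psiL (i : Fin 5) : rho (psiL i) = f5 i := by
  fin_cases i <;> simp [psiL, rho_of, fG, gF, gidx, gword, evalW, fL]

theorem rho_lift (w : FreeGroup (Fin 5)) :
    rho (FreeGroup.lift psiL w) = FreeGroup.lift f5 w := by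
  have h : rho.comp (FreeGroup.lift psiL) = FreeGroup.lift f5 := by
    ext i; simp [rho_psiL]
  exact DFunLike.congr_fun h w

/-- Element `k` of a list of words. -/
noncomputable def elemL (W : List (List ℕ)) (k : ℕ) : Cfsg.Spor.Ly :=
  FreeGroup.lift psiL (evalW fL (W.getD k []))

theorem rho_elemL (W : List (List ℕ)) (k : ℕ) :
    rho (elemL W k) = S.den (evM (W.getD k [])) := by
  rw [elemL, rho_lift, ← (evM_ok _).2]

/-- Code of a letter. -/
noncomputable def codeL (P : List (ℕ × ℕ)) (x : ℕ) : ℕ :=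
  cond (Nat.beq (x % 2) 0) (P.getD (x / 2) (one111, one111)).1
    (P.getD (x / 2) (one111, one111)).2

/-- Code of a product of letters. -/
noncomputable def evC (P : List (ℕ × ℕ)) (w : List ℕ) : ℕ :=
  List.rec one111 (fun x _ ih => mulF 111 (codeL P x) ih) w

/-- The inverse word. -/
def winvL (w : List ℕ) : List ℕ := (w.map fun x => x ^^^ 1).reverse

/-- The codes are those of the words and come with inverses. -/
noncomputable def codesOK (W : List (List ℕ)) (P : List (ℕ × ℕ)) : Bool :=
  Nat.beq W.length P.length && allN P.length fun k =>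
    Nat.beq (evM (W.getD k [])) (P.getD k (one111, one111)).1 &&
      Nat.beq (evM (winvL (W.getD k []))) (P.getD k (one111, one111)).2 &&
      Nat.beq (mulF 111 (P.getD k (one111, one111)).1 (P.getD k (one111, one111)).2) one111

/-- A relator holds. -/
noncomputable def relOK (P : List (ℕ × ℕ)) (w : List ℕ) : Bool :=
  (w.all fun x => Nat.blt x (Nat.mul 2 P.length)) && Nat.beq (evC P w) one111

/-- All relators hold. -/
noncomputable def relsOK (C : Cert) (P : List (ℕ × ℕ)) : Bool :=
  Nat.ble C.n P.length && C.rels.all (relOK P)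

/-- Evaluate a number first. -/
def forceV {α : Sort*} (n : ℕ) (k : ℕ → α) : α :=
  match n with
  | 0 => k 0
  | m + 1 => k (m + 1)

theorem forceV_eq {α : Sort*} (n : ℕ) (k : ℕ → α) : forceV n k = k n := by cases n <;> rfl

/-- Row vector times matrix. -/
noncomputable def vmF (v M : ℕ) : ℕ :=
  red5 56 (sumN 111 fun l => Nat.mul (getP 12 v l) (getP 1332 M l))

/-- A canonical packed vector. -/
noncomputable def validV (u : ℕ) : Bool :=
  allN 111 (fun j => Nat.blt (getP 12 u j) 5) &&
    Nat.beq (packP 12 (fun j => getP 12 u j) 111) u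

/-- Membership. -/
def memV (x : ℕ) : List ℕ → Bool
  | [] => false
  | y :: t => Nat.beq x y || memV x t

/-- The orbit separates generator `i` from the later ones. -/
noncomputable def orbOK (C : Cert) (P : List (ℕ × ℕ)) (i : ℕ) (O : List ℕ) : Bool :=
  (O.all fun v => validV v &&
    (List.range (C.n - i - 1)).all fun d =>
      forceV (vmF v (codeL P (2 * (i + 1 + d) + 1))) fun x => memV x O) &&
  !O.isEmpty &&
    forceV (vmF (O.headD 0) (codeL P (2 * i + 1))) fun x => !memV x O

/-- The vector of a code. -/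
noncomputable def toVec (v : ℕ) : Fin 111 → ZMod 5 := fun j => (getP 12 v j : ZMod 5)

theorem memV_iff {x : ℕ} : ∀ {L : List ℕ}, memV x L = true ↔ x ∈ L := by
  intro L
  induction L with
  | nil => simp [memV]
  | cons y t ih => simp [memV, ih, Nat.beq_eq]

theorem validV_spec {u : ℕ} (h : validV u = true) :
    (∀ j < 111, getP 12 u j < 5) ∧ packP 12 (fun j => getP 12 u j) 111 = u := by
  simp only [validV, Bool.and_eq_true, allN_iff, Nat.beq_eq] at h
  exact ⟨fun j hj => Nat.le_of_ble_eq_true (h.1 j hj), h.2⟩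

theorem sumRow_eq (n v M : ℕ) :
    sumN n (fun l => Nat.mul (getP 12 v l) (getP (12 * n) M l)) =
      packP 12 (fun j => ∑ l : Fin n, getP 12 v l * getP 12 M (l * n + j)) n := by
  have h := rowAcc_eq 12 n v M 0
  simp only [Nat.zero_mul, Nat.zero_add] at h
  rw [← h]
  unfold rowAcc
  congr 1
  funext l
  show _ = Nat.mul (getP 12 v (0 * n + l)) _
  rw [Nat.zero_mul, Nat.zero_add]
  rfl

theorem red5_sum {n m : ℕ} (hn : n ≤ 111) (hm : n ≤ 2 * m) (hm' : 2 * m ≤ n + 1) {v M : ℕ}
    (hv : ∀ j < n, getP 12 v j < 5) (hM : MatCanon 12 n 5 M) :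
    ((∀ j < n, getP 12 (red5 m (sumN n fun l => Nat.mul (getP 12 v l) (getP (12 * n) M l))) j < 5) ∧
      packP 12 (fun j =>
        getP 12 (red5 m (sumN n fun l => Nat.mul (getP 12 v l) (getP (12 * n) M l))) j) n =
        red5 m (sumN n fun l => Nat.mul (getP 12 v l) (getP (12 * n) M l))) ∧
    (fun j : Fin n =>
      (getP 12 (red5 m (sumN n fun l => Nat.mul (getP 12 v l) (getP (12 * n) M l))) j : ZMod 5)) =
      Matrix.vecMul (fun j : Fin n => (getP 12 v j : ZMod 5)) (toMat 12 n 5 M) := by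
  let r : ℕ → ℕ := fun j => ∑ l : Fin n, getP 12 v l * getP 12 M (l * n + j)
  have hr : ∀ k < n, r k ≤ 1776 := fun k hk => by
    calc r k ≤ ∑ _l : Fin n, 16 := Finset.sum_le_sum fun l _ => by
          have h1 := hv l l.2
          have h2 := hM.1 _ (idx_lt l (⟨k, hk⟩ : Fin n))
          simp only at h2
          calc _ ≤ 4 * 4 := Nat.mul_le_mul (Nat.le_of_lt_succ h1) (Nat.le_of_lt_succ h2)
            _ = 16 := rfl
      _ = n * 16 := by simp
      _ ≤ 1776 := by omega
  rw [sumRow_eq, red5_eq hm hm' r hr]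
  have hg : ∀ k < n, getP 12 (packP 12 (fun k => r k % 5) n) k = r k % 5 :=
    getP_packP 12 _ n fun k _ => lt_of_lt_of_le (Nat.mod_lt _ (by norm_num)) (by norm_num)
  refine ⟨⟨fun j hj => by rw [hg j hj]; exact Nat.mod_lt _ (by norm_num),
    packP_congr 12 n hg⟩, funext fun j => ?_⟩
  rw [hg j j.2, ZMod.natCast_mod, Nat.cast_sum]
  exact Finset.sum_congr rfl fun l _ => by rw [Nat.cast_mul]; rfl

theorem vmF_spec {v M : ℕ} (hv : validV v = true) (hM : MatCanon 12 111 5 M) :
    ((∀ j < 111, getP 12 (vmF v M) j < 5) ∧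
      packP 12 (fun j => getP 12 (vmF v M) j) 111 = vmF v M) ∧
    toVec (vmF v M) = Matrix.vecMul (toVec v) (toMat 12 111 5 M) :=
  red5_sum (n := 111) (m := 56) le_rfl (by decide) (by decide) (validV_spec hv).1 hM

theorem toVec_inj {a b : ℕ} (ha : (∀ j < 111, getP 12 a j < 5) ∧
    packP 12 (fun j => getP 12 a j) 111 = a) (hb : (∀ j < 111, getP 12 b j < 5) ∧
    packP 12 (fun j => getP 12 b j) 111 = b) (h : toVec a = toVec b) : a = b := by
  rw [← ha.2, ← hb.2]
  refine packP_congr 12 111 fun j hj => ?_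
  have e := congrFun h ⟨j, hj⟩
  simp only [toVec] at e
  rwa [ZMod.natCast_eq_natCast_iff', Nat.mod_eq_of_lt (ha.1 j hj), Nat.mod_eq_of_lt (hb.1 j hj)]
    at e

section

variable {W : List (List ℕ)} {P : List (ℕ × ℕ)} (hW : codesOK W P = true)
include hW

theorem code_spec {k : ℕ} (hk : k < P.length) :
    (MatOK 12 111 5 (codeL P (2 * k)) ∧ S.den (codeL P (2 * k)) = rho (elemL W k)) ∧
      MatOK 12 111 5 (codeL P (2 * k + 1)) ∧
        S.den (codeL P (2 * k + 1)) = (rho (elemL W k))⁻¹ := by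
  simp only [codesOK, Bool.and_eq_true, allN_iff] at hW
  obtain ⟨⟨he, hi⟩, hp⟩ := hW.2 k hk
  have e0 : codeL P (2 * k) = (P.getD k (one111, one111)).1 := by simp [codeL]
  have e1 : codeL P (2 * k + 1) = (P.getD k (one111, one111)).2 := by
    simp [codeL, Nat.add_mod, show (2 * k + 1) / 2 = k by omega, show Nat.beq 1 0 = false from rfl]
  have o1 : MatOK 12 111 5 (P.getD k (one111, one111)).1 :=
    Nat.eq_of_beq_eq_true he ▸ (evM_ok (W.getD k [])).1
  have o2 : MatOK 12 111 5 (P.getD k (one111, one111)).2 :=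
    Nat.eq_of_beq_eq_true hi ▸ (evM_ok (winvL (W.getD k []))).1
  have h2 : S.den (P.getD k (one111, one111)).2 = (S.den (P.getD k (one111, one111)).1)⁻¹ := by
    refine eq_inv_of_mul_eq_one_right ?_
    refine (mul_ok_gen _ _ _ o1 o2).2.symm.trans ?_
    rw [← mulF_eq (by norm_num) le_rfl o1.1 o2.1, Nat.eq_of_beq_eq_true hp]
    exact S.den_one
  have h1 : S.den (P.getD k (one111, one111)).1 = rho (elemL W k) := by
    rw [rho_elemL, Nat.eq_of_beq_eq_true he]
  rw [e0, e1]
  exact ⟨⟨o1, h1⟩, o2, by rw [h2, h1]⟩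

theorem evC_spec : ∀ {w : List ℕ}, (∀ x ∈ w, x < 2 * P.length) →
    MatOK 12 111 5 (evC P w) ∧ S.den (evC P w) = rho (val (elemL W) w)
  | [], _ => ⟨matOK_one (by norm_num) (by norm_num),
      S.den_one.trans (by rw [val_nil, map_one])⟩
  | x :: w, h => by
    have hl : MatOK 12 111 5 (codeL P x) ∧ S.den (codeL P x) = rho (lv (elemL W) x) := by
      have hx := h x (by simp)
      obtain ⟨k, rfl | rfl⟩ : ∃ k, x = 2 * k ∨ x = 2 * k + 1 := ⟨x / 2, by omega⟩
      · rw [lv_even]; exact (code_spec hW (by omega)).1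
      · rw [lv_odd, map_inv]; exact (code_spec hW (by omega)).2
    have ih := evC_spec fun y hy => h y (List.mem_cons_of_mem _ hy)
    have e : evC P (x :: w) = mulMat 12 111 5 (codeL P x) (evC P w) :=
      mulF_eq (by norm_num) le_rfl hl.1.1 ih.1.1
    rw [e, val_cons, map_mul, ← hl.2, ← ih.2]
    exact mul_ok_gen _ _ _ hl.1 ih.1

theorem elemL_notMem {C : Cert} {i : ℕ} {O : List ℕ} [Finite Cfsg.Spor.Ly]
    (hn : C.n ≤ P.length) (hi : i < C.n) (hO : orbOK C P i O = true) :
    elemL W i ∉ Subgroup.closure (tailGens (elemL W) (i + 1) C.n) := by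
  simp only [orbOK, forceV_eq, Bool.and_eq_true, List.all_eq_true, List.mem_range,
    Bool.not_eq_true', memV_iff] at hO
  obtain ⟨⟨hcl, hne⟩, hout⟩ := hO
  cases O with
  | nil => simp at hne
  | cons a O' =>
    rw [List.headD_cons] at hout
    have hinv : ∀ k < P.length,
        ((rho (elemL W k)⁻¹ : GL111) : Matrix (Fin 111) (Fin 111) (ZMod 5)) =
          toMat 12 111 5 (codeL P (2 * k + 1)) := fun k hk => by
      have h := (code_spec hW hk).2
      rw [map_inv, ← h.2]
      exact matDen_coe h.1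
    refine not_mem_closure_of_orbit
      (fun g v => Matrix.vecMul v ((rho g⁻¹ : GL111) : Matrix (Fin 111) (Fin 111) (ZMod 5)))
      (fun v => by simp [Matrix.vecMul_one])
      (fun g h v => by simp [Matrix.vecMul_vecMul]) _ ((a :: O').map toVec) ?_
      (a := toVec a) (List.mem_map.2 ⟨a, by simp, rfl⟩) ?_
    · rintro _ ⟨j, ⟨hj1, hj2⟩, rfl⟩ v hv
      obtain ⟨u, hu, rfl⟩ := List.mem_map.1 hv
      have hm := (hcl u hu).2 (j - i - 1) (by omega)
      rw [show i + 1 + (j - i - 1) = j by omega] at hm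
      refine List.mem_map.2 ⟨_, hm, ?_⟩
      rw [(vmF_spec (hcl u hu).1 (code_spec hW (show j < P.length by omega)).2.1.1).2,
        ← hinv j (by omega)]
    · intro hmem
      obtain ⟨u, hu, e⟩ := List.mem_map.1 hmem
      have hs := vmF_spec (hcl a (by simp)).1 (code_spec hW (show i < P.length by omega)).2.1.1
      rw [hinv i (by omega), ← hs.2] at e
      rw [toVec_inj (validV_spec (hcl u hu).1) hs.1 e] at hu
      exact (Bool.eq_false_iff.1 hout) (memV_iff.2 hu)

/-- A checked certificate excludes stem extensions. -/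
theorem noStem_of_data [Finite Cfsg.Spor.Ly] (hinj : Function.Injective rho) (C : Cert)
    (Os : List (List ℕ)) (hC : C.check = true) (hR : relsOK C P = true)
    (hO : ∀ i < C.n, orbOK C P i (Os.getD i []) = true) (hl : C.l.Prime)
    (hord : ¬ C.l ^ (C.n + 1) ∣ Nat.card Cfsg.Spor.Ly) : NoStem C.l Cfsg.Spor.Ly := by
  simp only [relsOK, relOK, Bool.and_eq_true, List.all_eq_true, Nat.ble_eq] at hR
  obtain ⟨hn, hrels⟩ := hR
  have hrel : ∀ w ∈ C.rels, val (elemL W) w = 1 := by
    intro w hw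
    obtain ⟨hb, hone⟩ := hrels w hw
    refine hinj ?_
    rw [← (evC_spec hW fun x hx => Nat.le_of_ble_eq_true (hb x hx)).2,
      Nat.eq_of_beq_eq_true hone, map_one]
    exact S.den_one
  refine Cfsg.Agent.H34.SylCert.noStem C hl hC (elemL W) hrel ?_ hord
  have hC' := hC
  simp only [Cert.check, Bool.and_eq_true] at hC'
  exact card_series_ge C hl hC'.1.1.1 (elemL W)
    (fun w hw => hrel w (List.mem_append_left _ hw)) fun i hi => elemL_notMem hW hn hi (hO i hi)

end

end Cfsg.Agent.H94.Ly
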